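import Groth.Agent.FibDesc.K290.Small
import Groth.Agent.CohtopB.HypCosk
import Mathlib.CategoryTheory.Limits.Shapes.Products
import Mathlib.CategoryTheory.Category.ULift
import Mathlib.CategoryTheory.MorphismProperty.Limits

/-!
# Descent along hypercoverings from descent along Cech nerves

`isDesc_of_hypercovering`: `W` a class of morphisms stable under base change and composition, `A` a bounded below
complex of abelian presheaves satisfying descent along the Cech nerve of every morphism of `W`. Then `A` satisfies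
descent along every hypercovering for `W`.
-/

set_option autoImplicit false
set_option backward.isDefEq.respectTransparency false
set_option backward.isDefEq.respectTransparency.types false

universe u v w

open CategoryTheory CategoryTheory.Limits Opposite ComplexShape Simplicial

namespace K290.Hyp

open K781.Desc K290.ElDesc K290.LocEx K290.Small Groth.Agent.CohtopB.LocTriv Groth.Agent.CohtopB

variable {C : Type u} [Category.{v} C] (W : MorphismProperty C)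

/-- Compatible boundaries are filled after a morphism of `W`. -/
structure LHW (σ : Dp ⥤ Cᵒᵖ) : Prop where
  zero : ∀ ⦃V : C⦄ (e : V ⟶ pt σ WithInitial.star), ∃ (V' : C) (g : V' ⟶ V), W g ∧
    ∃ z : V' ⟶ pt σ (ob 0), z ≫ ag σ = g ≫ e
  one : ∀ ⦃V : C⦄ (y₀ y₁ : V ⟶ pt σ (ob 0)), y₀ ≫ ag σ = y₁ ≫ ag σ → ∃ (V' : C) (g : V' ⟶ V), W g ∧
    ∃ z : V' ⟶ pt σ (ob 1), z ≫ fc σ 0 = g ≫ y₀ ∧ z ≫ fc σ 1 = g ≫ y₁
  succ : ∀ ⦃n : ℕ⦄ ⦃V : C⦄ (y : Fin (n + 3) → (V ⟶ pt σ (ob (n + 1)))),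
    (∀ i j : Fin (n + 2), i ≤ j → y j.succ ≫ fc σ i = y i.castSucc ≫ fc σ j) → ∃ (V' : C) (g : V' ⟶ V), W g ∧
    ∃ z : V' ⟶ pt σ (ob (n + 2)), ∀ i, z ≫ fc σ i = g ≫ y i

/-- The augmented simplicial object as a functor on `Dp`. -/
noncomputable abbrev tau (a : SimplicialObject.Augmented C) : Dp ⥤ Cᵒᵖ :=
  (AugmentedSimplexCategory.equivAugmentedSimplicialObject.inverse.obj a).rightOp

section cosk

variable {W} (K : SimplicialObject C) (n : ℕ)
  [∀ (F : (SimplexCategory.Truncated n)ᵒᵖ ⥤ C), (SimplexCategory.Truncated.inclusion n).op.HasRightKanExtension F]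

lemma comp_aux {D : Type*} [Category* D] {W V K₁ T P : D} (z : W ⟶ K₁) (g : W ⟶ V) (a : K₁ ⟶ T)
    (c : V ⟶ T) (h : z ≫ a = g ≫ c) (q : T ⟶ P) (d : K₁ ⟶ P) (h1 : a ≫ q = d) (x : V ⟶ P)
    (h2 : c ≫ q = x) : z ≫ d = g ≫ x := by
  rw [← h1, ← h2, ← Category.assoc, h, Category.assoc]

/-- Compatible boundaries are filled after pullback of the coskeleton map. -/
lemma exists_fill [HasPullbacks C] [HasCoproducts.{v} C] [W.IsStableUnderBaseChange]
    (hn : W (((SimplicialObject.coskAdj n).unit.app K).app (op ⦋n + 1⦌))) {V : C}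
    (x : Fin (n + 2) → (V ⟶ K _⦋n⦌)) (hx : HypCosk.Compat (K ⋙ coyoneda.obj (op V)) n x) :
    ∃ (V' : C) (g : V' ⟶ V), W g ∧ ∃ z : V' ⟶ K _⦋n + 1⦌, ∀ i, z ≫ K.δ i = g ≫ x i := by
  obtain ⟨c, hc⟩ := HypCosk.exists_section (sigmaConstAdj V) n K x hx
  refine ⟨pullback (((SimplicialObject.coskAdj n).unit.app K).app (op ⦋n + 1⦌)) c, pullback.snd _ _,
    W.pullback_snd _ _ hn, pullback.fst _ _, fun i => ?_⟩
  exact comp_aux _ _ _ c pullback.condition _ _ (HypCosk.unit_comp_δ n K i) _ (hc i)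

end cosk

/-- Hypercoverings. -/
theorem lhw_of_cosk [HasPullbacks C] [HasCoproducts.{v} C] [W.IsStableUnderBaseChange]
    {S : C} (hS : IsTerminal S) (K : SimplicialObject C)
    [∀ (n : ℕ) (G : (SimplexCategory.Truncated n)ᵒᵖ ⥤ C),
      (SimplexCategory.Truncated.inclusion n).op.HasRightKanExtension G]
    (h0 : W (hS.from (K.obj (op (SimplexCategory.mk 0)))))
    (hn : ∀ n : ℕ, W (((SimplicialObject.coskAdj n).unit.app K).app (op (SimplexCategory.mk (n + 1))))) :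
    LHW W (aug1 K hS) where
  zero V e := ⟨pullback (hS.from (K.obj (op (SimplexCategory.mk 0)))) e, pullback.snd _ _,
    W.pullback_snd _ _ h0, pullback.fst _ _, hS.hom_ext _ _⟩
  one V y₀ y₁ _ := by
    obtain ⟨V', g, hg, z, hz⟩ := exists_fill K 0 (hn 0) ![y₀, y₁] trivial
    exact ⟨V', g, hg, z, hz 0, hz 1⟩
  succ n V y hy := by
    obtain ⟨V', g, hg, z, hz⟩ := exists_fill K (n + 1) (hn (n + 1)) y hy
    exact ⟨V', g, hg, z, hz⟩

section cech

variable [∀ (n : ℕ) (f : Arrow C), HasWidePullback f.right (fun _ : Fin (n + 1) => f.left) fun _ => f.hom]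
  {X T : C} (f : X ⟶ T)

omit [∀ (n : ℕ) (f : Arrow C), HasWidePullback f.right (fun _ : Fin (n + 1) => f.left) fun _ => f.hom] in
lemma hwp (n : ℕ)
    [h : ∀ (n : ℕ) (f : Arrow C), HasWidePullback f.right (fun _ : Fin (n + 1) => f.left) fun _ => f.hom] :
    HasWidePullback T (fun _ : Fin (n + 1) => X) (fun _ => f) := h n (Arrow.mk f)

attribute [local instance] hwp

/-- The base of a section of the Cech nerve. -/
noncomputable abbrev bs {V : C} {n : ℕ} (x : V ⟶ (Arrow.mk f).cechNerve _⦋n⦌) : V ⟶ T :=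
  x ≫ WidePullback.base _

/-- The vertices of a section of the Cech nerve. -/
noncomputable abbrev vx {V : C} {n : ℕ} (x : V ⟶ (Arrow.mk f).cechNerve _⦋n⦌) (j : Fin (n + 1)) : V ⟶ X :=
  x ≫ WidePullback.π _ j

variable {f}

lemma vx_f {V : C} {n : ℕ} (x : V ⟶ (Arrow.mk f).cechNerve _⦋n⦌) (j : Fin (n + 1)) : vx f x j ≫ f = bs f x := by
  rw [Category.assoc]
  congr 1
  exact WidePullback.π_arrow (fun _ : Fin (n + 1) => f) j

lemma vx_ext {V : C} {n : ℕ} {x y : V ⟶ (Arrow.mk f).cechNerve _⦋n⦌} (h : ∀ j, vx f x j = vx f y j)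
    (h' : bs f x = bs f y) : x = y :=
  WidePullback.hom_ext _ _ _ h h'

lemma vx_map {V : C} {n m : ℕ} (x : V ⟶ (Arrow.mk f).cechNerve _⦋n⦌) (α : ⦋m⦌ ⟶ ⦋n⦌) (j : Fin (m + 1)) :
    vx f (x ≫ (Arrow.mk f).cechNerve.map α.op) j = vx f x (α.toOrderHom j) :=
  (Category.assoc _ _ _).trans (congrArg (x ≫ ·) (WidePullback.lift_π _ _ _ _ _))

lemma bs_map {V : C} {n m : ℕ} (x : V ⟶ (Arrow.mk f).cechNerve _⦋n⦌) (α : ⦋m⦌ ⟶ ⦋n⦌) :
    bs f (x ≫ (Arrow.mk f).cechNerve.map α.op) = bs f x :=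
  (Category.assoc _ _ _).trans (congrArg (x ≫ ·) (WidePullback.lift_base _ _ _ _))

lemma exists_vx {V : C} {n : ℕ} (b : V ⟶ T) (v : Fin (n + 1) → (V ⟶ X)) (h : ∀ j, v j ≫ f = b) :
    ∃ x : V ⟶ (Arrow.mk f).cechNerve _⦋n⦌, bs f x = b ∧ ∀ j, vx f x j = v j :=
  ⟨WidePullback.lift b v h, WidePullback.lift_base _ _ _ _, fun j => WidePullback.lift_π _ _ _ _ j⟩

/-- The Cech nerve has fillings of compatible boundaries with the same base. -/
lemma exists_fill_cech {V : C} (n : ℕ) (x : Fin (n + 2) → (V ⟶ (Arrow.mk f).cechNerve _⦋n⦌))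
    (hx : HypCosk.Compat ((Arrow.mk f).cechNerve ⋙ coyoneda.obj (op V)) n x)
    (hb : ∀ i j, bs f (x i) = bs f (x j)) :
    ∃ z : V ⟶ (Arrow.mk f).cechNerve _⦋n + 1⦌, ∀ i, z ≫ (Arrow.mk f).cechNerve.δ i = x i := by
  have h1 : ∀ j : Fin (n + 2), ∃ y : V ⟶ (Arrow.mk f).cechNerve _⦋0⦌,
      HypCosk.IsVal ((Arrow.mk f).cechNerve ⋙ coyoneda.obj (op V)) n x (SimplexCategory.const ⦋0⦌ ⦋n + 1⦌ j) y :=
    fun j => HypCosk.IsVal.exists ((Arrow.mk f).cechNerve ⋙ coyoneda.obj (op V)) n x (Nat.zero_le n)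
      (SimplexCategory.const ⦋0⦌ ⦋n + 1⦌ j)
  choose y hy using h1
  have hyb : ∀ j, bs f (y j) = bs f (x 0) := by
    intro j
    obtain ⟨i, β, hβ, h⟩ := hy j
    have h' : y j = x i ≫ (Arrow.mk f).cechNerve.map β.op := h
    rw [h', bs_map]
    exact hb _ _
  obtain ⟨z, hz, hz'⟩ := exists_vx (n := n + 1) (f := f) (bs f (x 0)) (fun j => vx f (y j) 0)
    (fun j => (vx_f _ _).trans (hyb j))
  refine ⟨z, fun i => vx_ext (fun m => ?_) ?_⟩
  · refine (vx_map z (SimplexCategory.δ i) m).trans ?_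
    rw [hz']
    have h2 : HypCosk.IsVal ((Arrow.mk f).cechNerve ⋙ coyoneda.obj (op V)) n x
        (SimplexCategory.const ⦋0⦌ ⦋n + 1⦌ ((SimplexCategory.δ i).toOrderHom m))
        (x i ≫ (Arrow.mk f).cechNerve.map (SimplexCategory.const ⦋0⦌ ⦋n⦌ m).op) :=
      ⟨i, SimplexCategory.const ⦋0⦌ ⦋n⦌ m, rfl, rfl⟩
    rw [HypCosk.IsVal.unique hx (hy ((SimplexCategory.δ i).toOrderHom m)) h2]
    exact vx_map (x i) (SimplexCategory.const ⦋0⦌ ⦋n⦌ m) 0
  · refine (bs_map z (SimplexCategory.δ i)).trans ?_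
    rw [hz]
    exact hb _ _

theorem lhw_cech [HasPullbacks C] [W.IsStableUnderBaseChange] [W.ContainsIdentities] (hf : W f) : LHW W (cech f) where
  zero V e := by
    obtain ⟨z, hz, hz'⟩ := exists_vx (n := 0) (f := f) (pullback.snd f e ≫ e) (fun _ => pullback.fst f e)
      (fun _ => pullback.condition)
    exact ⟨pullback f e, pullback.snd f e, W.pullback_snd _ _ hf, z, hz⟩
  one V y₀ y₁ h := by
    obtain ⟨z, hz⟩ := exists_fill_cech 0 (V := V) (f := f) ![y₀, y₁] trivial (fun i j => by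
      fin_cases i <;> fin_cases j <;> first | rfl | exact h | exact h.symm)
    exact ⟨V, 𝟙 V, W.id_mem V, z, by rw [Category.id_comp]; exact hz 0, by rw [Category.id_comp]; exact hz 1⟩
  succ n V y hy := by
    have hb : ∀ i j : Fin (n + 2), i ≤ j → bs f (y j.succ) = bs f (y i.castSucc) := by
      intro i j hij
      have h1 := congrArg (bs f) (hy i j hij)
      rw [show bs f (y j.succ ≫ fc (cech f) i) = bs f (y j.succ) from bs_map _ _,
        show bs f (y i.castSucc ≫ fc (cech f) j) = bs f (y i.castSucc) from bs_map _ _] at h1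
      exact h1
    have hb' : ∀ i j : Fin (n + 3), i ≤ j → bs f (y j) = bs f (y i) := by
      intro i j hij
      obtain rfl | hlt := hij.eq_or_lt
      · rfl
      · obtain ⟨j, rfl⟩ := Fin.exists_succ_eq.2 (Fin.ne_zero_of_lt hlt)
        obtain ⟨i, rfl⟩ := Fin.exists_castSucc_eq.2 (Fin.ne_last_of_lt hlt)
        refine hb i j ?_
        rw [Fin.lt_def] at hlt
        simp only [Fin.val_castSucc, Fin.val_succ] at hlt
        rw [Fin.le_def]
        omega
    obtain ⟨z, hz⟩ := exists_fill_cech (n + 1) (V := V) (f := f) y hy (fun i j => by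
      obtain h | h := le_total i j
      · exact (hb' i j h).symm
      · exact hb' j i h)
    exact ⟨V, 𝟙 V, W.id_mem V, z, fun i => by rw [Category.id_comp]; exact hz i⟩

end cech

section lift

variable {C : Type (u + 1)} [Category.{u} C]

variable (C) in
/-- The functor to the universe lift. -/
abbrev upF : C ⥤ ULiftHom.{u + 1} C := ULiftHom.up

variable (C) in
/-- The functor from the universe lift. -/
abbrev dnF : ULiftHom.{u + 1} C ⥤ C := ULiftHom.down

section topo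

variable [HasPullbacks C] (W : MorphismProperty C) [W.IsStableUnderBaseChange] [W.IsMultiplicative]

/-- The topology defined by `W`, on the universe lift of `C`. -/
def topW : GrothendieckTopology (ULiftHom.{u + 1} C) where
  sieves T := {R | ∃ (X : C) (f : X ⟶ T.objDown), W f ∧ R.arrows (⟨f⟩ : ULiftHom.objUp X ⟶ T)}
  top_mem' T := ⟨T.objDown, 𝟙 _, W.id_mem _, trivial⟩
  pullback_stable' := by
    rintro T T' R g ⟨X, f, hf, hR⟩
    refine ⟨pullback f g.down, pullback.snd _ _, W.pullback_snd _ _ hf, ?_⟩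
    have h1 : (⟨pullback.snd f g.down⟩ : ULiftHom.objUp (pullback f g.down) ⟶ T') ≫ g =
        (⟨pullback.fst f g.down⟩ : ULiftHom.objUp (pullback f g.down) ⟶ ULiftHom.objUp X) ≫
          (⟨f⟩ : ULiftHom.objUp X ⟶ T) := ULift.ext _ _ pullback.condition.symm
    change R.arrows (_ ≫ g)
    rw [h1]
    exact R.downward_closed hR _
  transitive' := by
    rintro T R ⟨X, f, hf, hR⟩ R' h
    obtain ⟨X', f', hf', hR'⟩ := h hR
    exact ⟨X', f' ≫ f, W.comp_mem _ _ hf' hf, hR'⟩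

variable {W}

lemma loc_of {V : ULiftHom.{u + 1} C} {P : ∀ ⦃V' : ULiftHom.{u + 1} C⦄, (V' ⟶ V) → Prop}
    (hP : ∀ (V' V'' : ULiftHom.{u + 1} C) (g : V' ⟶ V) (h : V'' ⟶ V'), P g → P (h ≫ g)) {V' : C}
    (g : V' ⟶ V.objDown) (hg : W g) (h : P (⟨g⟩ : ULiftHom.objUp V' ⟶ V)) : Loc (topW W) V P :=
  ⟨⟨fun _ g => P g, fun hf g => hP _ _ _ g hf⟩, ⟨V', g, hg, h⟩, fun _ _ h => h⟩

lemma LHW.lh {σ : Dp ⥤ Cᵒᵖ} (h : LHW W σ) : LH (topW W) (σ ⋙ (upF C).op) where
  zero V e := by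
    obtain ⟨V', g, hg, z, hz⟩ := h.zero (V := V.objDown) e.down
    refine loc_of (fun V' V'' g k ⟨z, hz⟩ => ⟨k ≫ z, ?_⟩) g hg ⟨⟨z⟩, ULift.ext _ _ hz⟩
    rw [Category.assoc, hz, Category.assoc]
  one V y₀ y₁ hy := by
    obtain ⟨V', g, hg, z, hz0, hz1⟩ := h.one (V := V.objDown) y₀.down y₁.down (congrArg ULift.down hy)
    refine loc_of (fun V' V'' g k ⟨z, hz0, hz1⟩ => ⟨k ≫ z, ?_, ?_⟩) g hg
      ⟨⟨z⟩, ULift.ext _ _ hz0, ULift.ext _ _ hz1⟩
    · rw [Category.assoc, hz0, Category.assoc]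
    · rw [Category.assoc, hz1, Category.assoc]
  succ n V y hy := by
    obtain ⟨V', g, hg, z, hz⟩ := h.succ (V := V.objDown) (fun i => (y i).down)
      (fun i j hij => congrArg ULift.down (hy i j hij))
    refine loc_of (fun V' V'' g k ⟨z, hz⟩ => ⟨k ≫ z, fun i => ?_⟩) g hg
      ⟨⟨z⟩, fun i => ULift.ext _ _ (hz i)⟩
    rw [Category.assoc, hz, Category.assoc]

end topo

variable (A : CochainComplex (Cᵒᵖ ⥤ AddCommGrpCat.{u}) ℤ)

/-- The universe lift of a complex of presheaves. -/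
noncomputable abbrev A' : CochainComplex ((ULiftHom.{u + 1} C)ᵒᵖ ⥤ AddCommGrpCat.{u + 1}) ℤ :=
  UA.{u + 1} (K781.Desc.rs (dnF C).op A)

lemma elDesc_A'_iff (σ : Dp ⥤ Cᵒᵖ) :
    ElDesc (K781.Desc.rs (σ ⋙ (upF C).op) (A' A)) ↔ ElDesc (K781.Desc.rs σ A) :=
  elDesc_ulift_iff.{u + 1} (K781.Desc.rs σ A)

variable [HasFiniteLimits C] [HasCoproducts.{u} C] (W : MorphismProperty C) [W.IsStableUnderBaseChange]
  [W.IsMultiplicative]

variable {A} in
theorem isDesc_of_lhw (hA : BB A) (h : ∀ (X T : C) (f : X ⟶ T), W f → IsDesc (K781.Desc.rs (cech f) A))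
    {σ : Dp ⥤ Cᵒᵖ} (hσ : LHW W σ) : IsDesc (K781.Desc.rs σ A) := by
  obtain ⟨a, ha⟩ := hA
  have hbA : ∀ τ : Dp ⥤ Cᵒᵖ, BB (K781.Desc.rs τ A) := fun τ =>
    ⟨a, fun i hi => ((Functor.whiskeringLeft _ _ _).obj τ).map_isZero (ha i hi)⟩
  have hA' : BB (A' A) := ⟨a, fun i hi =>
    ((Functor.whiskeringRight _ _ _).obj AddCommGrpCat.uliftFunctor.{u + 1, u}).map_isZero
      (((Functor.whiskeringLeft _ _ _).obj (dnF C).op).map_isZero (ha i hi))⟩
  have hbA' : BB (K781.Desc.rs (σ ⋙ (upF C).op) (A' A)) := by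
    obtain ⟨b, hb⟩ := hA'
    exact ⟨b, fun i hi => ((Functor.whiskeringLeft _ _ _).obj _).map_isZero (hb i hi)⟩
  refine isDesc_of_elDesc (hbA σ) ((elDesc_A'_iff A σ).1 (elDesc_of_isDesc hbA' ?_))
  refine isDesc_of_LH (J := topW W) hA' ?_ hσ.lh
  rintro T R ⟨X, f, hf, hR⟩
  refine ⟨cech f ⋙ (upF C).op, ⟨(lhw_cech W hf).lh, (elDesc_A'_iff A _).2
    (elDesc_of_isDesc (hbA _) (h _ _ f hf))⟩, Iso.refl _, ?_⟩
  have h1 : HasWidePullback T.objDown (fun _ : Fin 1 => X) (fun _ => f) := inferInstance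
  have h2 : (ag (cech f)) = WidePullback.π (fun _ : Fin 1 => f) 0 ≫ f :=
    (WidePullback.π_arrow (fun _ : Fin 1 => f) 0).symm
  have h3 : ((Iso.refl (op T)).hom ≫ (cech f ⋙ (upF C).op).map (init (ob 0))).unop =
      ((⟨WidePullback.π (fun _ : Fin 1 => f) 0⟩ : ULiftHom.objUp (pt (cech f) (ob 0)) ⟶ ULiftHom.objUp X)) ≫
      (⟨f⟩ : ULiftHom.objUp X ⟶ T) := by
    rw [Iso.refl_hom, Category.id_comp]
    exact ULift.ext _ _ h2
  rw [h3]
  exact R.downward_closed hR _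

variable {A} in
/-- Descent along hypercoverings. -/
theorem isDesc_of_hypercovering (hA : BB A)
    (h : ∀ (X T : C) (f : X ⟶ T), W f → IsDesc (K781.Desc.rs (cech f) A))
    {S : C} (hS : IsTerminal S) (K : SimplicialObject C)
    [∀ (n : ℕ) (G : (SimplexCategory.Truncated n)ᵒᵖ ⥤ C),
      (SimplexCategory.Truncated.inclusion n).op.HasRightKanExtension G]
    (h0 : W (hS.from (K.obj (op (SimplexCategory.mk 0)))))
    (hn : ∀ n : ℕ, W (((SimplicialObject.coskAdj n).unit.app K).app (op (SimplexCategory.mk (n + 1))))) :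
    IsDesc (K781.Desc.rs (aug1 K hS) A) :=
  isDesc_of_lhw W hA h (lhw_of_cosk W hS K h0 hn)

end lift

end K290.Hyp
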