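import Groth.Agent.FibDesc.K781.Extra
import Mathlib.Algebra.Category.Grp.Ulift

/-!
# Descent of coaugmented cosimplicial complexes of abelian groups, elementwise

`ElDesc A`: an elementwise form of `K781.Desc.IsDesc A` for `A : CochainComplex (Dp ⥤ AddCommGrpCat) ℤ`.
* `isDesc_iff`: for bounded below `A`, `IsDesc A ↔ ElDesc A`.
* `elDesc_ulift_iff`: `ElDesc` is compatible with the universe lift of abelian groups.
-/

set_option autoImplicit false
set_option backward.isDefEq.respectTransparency false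
set_option backward.isDefEq.respectTransparency.types false
set_option linter.dupNamespace false

universe u v w

open CategoryTheory CategoryTheory.Limits Opposite AlgebraicTopology HomologicalComplex₂ ComplexShape

namespace K290.ElDesc

open K781.Desc Groth.Agent.Htor.H253.TotalQuasi Groth.Agent.Htor.H253.TotalRow Groth.Agent.Htor.H253.TotalPrj
  Groth.Agent.Htor.H253.AbQuasi

variable (A : CochainComplex (Dp ⥤ AddCommGrpCat.{w}) ℤ)

/-- The group in degree `i` at `x`. -/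
abbrev vl (i : ℤ) (x : Dp) : AddCommGrpCat.{w} := (A.X i).obj x

/-- The differential at `x`. -/
abbrev df (i j : ℤ) (x : Dp) : vl A i x ⟶ vl A j x := (A.d i j).app x

/-- The alternating sum of the cofaces. -/
noncomputable abbrev de (i : ℤ) (n : ℕ) : vl A i (ob n) ⟶ vl A i (ob (n + 1)) := dd ((rF _).obj (A.X i)) n

/-- The coaugmentation. -/
abbrev au (i : ℤ) : vl A i WithInitial.star ⟶ vl A i (ob 0) := (A.X i).map (init (ob 0))

/-- Elementwise descent. -/
def ElDesc : Prop :=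
  ∀ (k : ℕ → ℤ) (_ : ∀ n, k (n + 1) + 1 = k n) (u : vl A (k 0 + 1) WithInitial.star)
    (v : ∀ n, vl A (k n) (ob n)),
    df A (k 0 + 1) (k 0 + 1 + 1) WithInitial.star u = 0 →
    df A (k 0) (k 0 + 1) (ob 0) (v 0) = au A (k 0 + 1) u →
    (∀ n, df A (k (n + 1)) (k n) (ob (n + 1)) (v (n + 1)) = de A (k n) n (v n)) →
    ∃ (x : vl A (k 0) WithInitial.star) (z : ∀ n, vl A (k (n + 1)) (ob n)),
      df A (k 0) (k 0 + 1) WithInitial.star x = u ∧
      v 0 = au A (k 0) x + df A (k 1) (k 0) (ob 0) (z 0) ∧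
      ∀ n, v (n + 1) = df A (k (n + 2)) (k (n + 1)) (ob (n + 1)) (z (n + 1)) + de A (k (n + 1)) n (z n)

variable {A} in
lemma ElDesc.apply (h : ElDesc A) (k : ℕ → ℤ) (hk : ∀ n, k (n + 1) + 1 = k n) (r s : ℤ) (hr : k 0 + 1 = r)
    (hs : r + 1 = s) (u : vl A r WithInitial.star) (v : ∀ n, vl A (k n) (ob n))
    (hu : df A r s WithInitial.star u = 0) (hv0 : df A (k 0) r (ob 0) (v 0) = au A r u)
    (hv : ∀ n, df A (k (n + 1)) (k n) (ob (n + 1)) (v (n + 1)) = de A (k n) n (v n)) :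
    ∃ (x : vl A (k 0) WithInitial.star) (z : ∀ n, vl A (k (n + 1)) (ob n)),
      df A (k 0) r WithInitial.star x = u ∧
      v 0 = au A (k 0) x + df A (k 1) (k 0) (ob 0) (z 0) ∧
      ∀ n, v (n + 1) = df A (k (n + 2)) (k (n + 1)) (ob (n + 1)) (z (n + 1)) + de A (k (n + 1)) n (z n) := by
  subst hr hs
  exact h k hk u v hu hv0 hv

/-! ### Elements of an abelian group as morphisms -/

section elt

/-- The infinite cyclic group. -/
def Z1 : AddCommGrpCat.{w} := AddCommGrpCat.of (ULift.{w} ℤ)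

/-- The generator. -/
def z1 : Z1.{w} := ULift.up (1 : ℤ)

/-- The morphism defined by an element. -/
def el {M : AddCommGrpCat.{w}} (x : M) : Z1.{w} ⟶ M :=
  AddCommGrpCat.ofHom ((zmultiplesHom M x).comp AddEquiv.ulift.toAddMonoidHom)

@[simp]
lemma el_z1 {M : AddCommGrpCat.{w}} (x : M) : el x z1 = x := one_zsmul x

lemma el_ext {M : AddCommGrpCat.{w}} {f g : Z1.{w} ⟶ M} (h : f z1 = g z1) : f = g := by
  ext ⟨n⟩
  have h1 : (ULift.up n : Z1.{w}) = n • z1 := by
    apply ULift.ext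
    change n = n * 1
    ring
  change f (ULift.up n : Z1.{w}) = g (ULift.up n : Z1.{w})
  rw [h1, map_zsmul, map_zsmul, h]

end elt

/-! ### Components of elements of the total complex -/

section cmp

variable {A}

/-- The component of an element of the total complex. -/
noncomputable def cmp (m i : ℤ) (n : ℕ) : ((DC A).total (up ℤ)).X m ⟶ vl A i (ob n) :=
  prj (DC A) i n m ≫ (θ ((rF _).obj (A.X i)) n n rfl).hom

lemma θ_inj (P : SimplexCategory ⥤ AddCommGrpCat.{w}) (n : ℕ) {x y : ((cf _).obj P).X (n : ℤ)}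
    (h : (θ P n n rfl).hom x = (θ P n n rfl).hom y) : x = y := hom_inj _ h

lemma ext_cmp (hA : BB A) (m : ℤ) (k : ℕ → ℤ) (hk : ∀ n, k n + n = m)
    {x y : ((DC A).total (up ℤ)).X m} (h : ∀ n, cmp m (k n) n x = cmp m (k n) n y) : x = y := by
  have h1 : el x = el y := by
    refine ext_prj (bdd_DC hA) fun i j hij => ?_
    apply el_ext
    rw [ConcreteCategory.comp_apply, ConcreteCategory.comp_apply, el_z1, el_z1]
    by_cases hj : 0 ≤ j
    · obtain ⟨n, rfl⟩ := Int.eq_ofNat_of_zero_le hj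
      obtain rfl : i = k n := by have := hk n; lia
      exact θ_inj _ n (h n)
    · have h2 : Subsingleton (((DC A).X i).X j) :=
        AddCommGrpCat.subsingleton_of_isZero (isZero_neg _ j (by lia))
      exact Subsingleton.elim _ _
  rw [← el_z1 x, h1, el_z1]

lemma exists_cmp (hA : BB A) (m : ℤ) (k : ℕ → ℤ) (hk : ∀ n, k n + n = m) (v : ∀ n, vl A (k n) (ob n)) :
    ∃ x : ((DC A).total (up ℤ)).X m, ∀ n, cmp m (k n) n x = v n := by
  classical
  have h1 : ∀ i j : ℤ, ∃ f : Z1.{w} ⟶ ((DC A).X i).X j, ∀ n : ℕ, ∀ (hi : k n = i) (hj : (n : ℤ) = j),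
      (θ ((rF _).obj (A.X i)) n j hj).hom (f z1) = (A.XIsoOfEq hi).hom.app (ob n) (v n) := by
    intro i j
    by_cases h : ∃ n : ℕ, k n = i ∧ (n : ℤ) = j
    · obtain ⟨n, hi, hj⟩ := h
      refine ⟨el ((θ ((rF _).obj (A.X i)) n j hj).inv ((A.XIsoOfEq hi).hom.app (ob n) (v n))), ?_⟩
      intro n' hi' hj'
      obtain rfl : n' = n := by lia
      rw [el_z1, inv_hom]
    · refine ⟨0, fun n hi hj => (h ⟨n, hi, hj⟩).elim⟩
  choose f hf using h1
  obtain ⟨g, hg⟩ := exists_prj (bdd_DC hA) m f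
  refine ⟨g z1, fun n => ?_⟩
  have h2 := hg (k n) n (hk n)
  have h3 := hf (k n) n n rfl rfl
  rw [← h2] at h3
  exact h3

lemma d_cmp_zero (m m' i i' : ℤ) (hm : m + 1 = m') (hi : i + 1 = i') (h : i' = m') :
    ((DC A).total (up ℤ)).d m m' ≫ cmp m' i' 0 = cmp m i 0 ≫ df A i i' (ob 0) := by
  have h1 := d_prj (DC A) i i' (-1) 0 m m' hi (by lia) hm (by lia)
  have h9 : prj (DC A) i' (-1) m ≫ ((DC A).X i').d (-1) 0 = 0 := by
    rw [show prj (DC A) i' (-1) m = 0 from (isZero_neg _ (-1) (by lia)).eq_of_tgt _ _, zero_comp]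
  have h6 : ((DC A).d i i').f 0 ≫ (θ ((rF _).obj (A.X i')) 0 0 rfl).hom =
      (θ ((rF _).obj (A.X i)) 0 0 rfl).hom ≫ (A.d i i').app (ob 0) :=
    θ_naturality ((rF _).map (A.d i i')) 0 0 rfl
  rw [h9, smul_zero, add_zero] at h1
  rw [cmp, cmp]
  erw [reassoc_of% h1, h6]
  rfl

lemma d_cmp_succ (m m' i i' : ℤ) (n : ℕ) (hm : m + 1 = m') (hi : i + 1 = i') (h : i' + (n + 1) = m') :
    ((DC A).total (up ℤ)).d m m' ≫ cmp m' i' (n + 1) = cmp m i (n + 1) ≫ df A i i' (ob (n + 1)) +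
      i'.negOnePow • (cmp m i' n ≫ de A i' n) := by
  have h1 := d_prj (DC A) i i' n (n + 1) m m' hi rfl hm (by lia)
  have h6 : ((DC A).d i i').f (n + 1) ≫ (θ ((rF _).obj (A.X i')) (n + 1) (n + 1) (by simp)).hom =
      (θ ((rF _).obj (A.X i)) (n + 1) (n + 1) (by simp)).hom ≫ (A.d i i').app (ob (n + 1)) :=
    θ_naturality ((rF _).map (A.d i i')) (n + 1) (n + 1) (by simp)
  have h7 : ((DC A).X i').d n (n + 1) ≫ (θ ((rF _).obj (A.X i')) (n + 1) (n + 1) (by simp)).hom =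
      (θ ((rF _).obj (A.X i')) n n rfl).hom ≫ dd ((rF _).obj (A.X i')) n :=
    θ_d _ n n (n + 1) rfl (by simp)
  have h8 := h1 =≫ (θ ((rF _).obj (A.X i')) (n + 1) (n + 1) (by simp)).hom
  rw [Preadditive.add_comp, Linear.units_smul_comp, Category.assoc, Category.assoc, Category.assoc, h6, h7] at h8
  exact h8

/-- The complex `A_{-1}`. -/
noncomputable abbrev Lst (A : CochainComplex (Dp ⥤ AddCommGrpCat.{w}) ℤ) : CochainComplex AddCommGrpCat.{w} ℤ :=
  ((eF AddCommGrpCat.{w}).mapHomologicalComplex (up ℤ)).obj A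

/-- The iso of `A_{-1}` with the total complex of the row. -/
noncomputable def ρ (A : CochainComplex (Dp ⥤ AddCommGrpCat.{w}) ℤ) (m : ℤ) :
    vl A m WithInitial.star ≅ ((E0 A).total (up ℤ)).X m :=
  rowIsoX (Lst A) m

lemma ρ_d (m m' : ℤ) (h : m + 1 = m') :
    (ρ A m).hom ≫ ((E0 A).total (up ℤ)).d m m' = df A m m' WithInitial.star ≫ (ρ A m').hom :=
  rowHom_comm (Lst A) m m' h

lemma ρ_cmp_zero (m : ℤ) :
    (ρ A m).hom ≫ (total.map (α A) (up ℤ)).f m ≫ cmp m m 0 = au A m := by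
  have h1 := map_prj (α A) m 0 m
  have h2 : (ρ A m).hom ≫ prj (E0 A) m 0 m = (HomologicalComplex.singleObjXSelf (up ℤ) 0 (vl A m WithInitial.star)).inv := by
    change ((rowX (Lst A) m).hom ≫ (row (Lst A)).ιTotal (up ℤ) m 0 m _) ≫ prj (row (Lst A)) m 0 m = _
    rw [Category.assoc, ι_prj, Category.comp_id]
    rfl
  have h3 : ((α A).f m).f 0 ≫ (θ ((rF _).obj (A.X m)) 0 0 rfl).hom = (HomologicalComplex.singleObjXSelf (up ℤ) 0
    (vl A m WithInitial.star)).hom ≫ au A m := augApp_f_zero (A.X m)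
  rw [cmp]
  erw [reassoc_of% h1, reassoc_of% h2, h3]
  exact Iso.inv_hom_id_assoc (HomologicalComplex.singleObjXSelf (up ℤ) 0 (vl A m WithInitial.star)) (au A m)

lemma ρ_cmp_succ (m i : ℤ) (n : ℕ) :
    (ρ A m).hom ≫ (total.map (α A) (up ℤ)).f m ≫ cmp m i (n + 1) = 0 := by
  have h1 := map_prj (α A) i (n + 1 : ℕ) m
  have h2 : (ρ A m).hom ≫ prj (E0 A) i (n + 1 : ℕ) m = 0 :=
    (HomologicalComplex.isZero_single_obj_X (up ℤ) 0 _ _ (by lia)).eq_of_tgt _ _
  rw [cmp]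
  erw [reassoc_of% h1, reassoc_of% h2]
  simp

end cmp

/-! ### Signs -/

/-- Signs relating the total complex and `ElDesc`. -/
def sg : ℤ → ℕ → ℤˣ
  | _, 0 => 1
  | i, n + 1 => i.negOnePow * sg (i + 1) n

lemma sg_zero (i : ℤ) : sg i 0 = 1 := rfl

lemma sg_succ (i : ℤ) (n : ℕ) : sg i (n + 1) = i.negOnePow * sg (i + 1) n := rfl

lemma sg_sq (i : ℤ) (n : ℕ) : sg i n * sg i n = 1 := Int.units_mul_self _

section main

variable {A}

lemma cmp_d_zero (m m' i i' : ℤ) (hm : m + 1 = m') (hi : i + 1 = i') (h : i' = m')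
    (x : ((DC A).total (up ℤ)).X m) :
    cmp m' i' 0 (((DC A).total (up ℤ)).d m m' x) = df A i i' (ob 0) (cmp m i 0 x) :=
  congr($(d_cmp_zero m m' i i' hm hi h) x)

lemma cmp_d_succ (m m' i i' : ℤ) (n : ℕ) (hm : m + 1 = m') (hi : i + 1 = i') (h : i' + (n + 1) = m')
    (x : ((DC A).total (up ℤ)).X m) :
    cmp m' i' (n + 1) (((DC A).total (up ℤ)).d m m' x) = df A i i' (ob (n + 1)) (cmp m i (n + 1) x) +
      i'.negOnePow • (de A i' n (cmp m i' n x)) :=
  congr($(d_cmp_succ m m' i i' n hm hi h) x)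

lemma map_units_smul {M N : AddCommGrpCat.{w}} (f : M ⟶ N) (s : ℤˣ) (x : M) : f (s • x) = s • f x :=
  map_zsmul f.hom (s : ℤ) x

lemma cmp_ρ_zero (m : ℤ) (u : vl A m WithInitial.star) :
    cmp m m 0 ((total.map (α A) (up ℤ)).f m ((ρ A m).hom u)) = au A m u :=
  congr($(ρ_cmp_zero m) u)

lemma cmp_ρ_succ (m i : ℤ) (n : ℕ) (u : vl A m WithInitial.star) :
    cmp m i (n + 1) ((total.map (α A) (up ℤ)).f m ((ρ A m).hom u)) = 0 :=
  congr($(ρ_cmp_succ m i n) u)

lemma d_ρ (m m' : ℤ) (h : m + 1 = m') (u : vl A m WithInitial.star) :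
    ((E0 A).total (up ℤ)).d m m' ((ρ A m).hom u) = (ρ A m').hom (df A m m' WithInitial.star u) :=
  congr($(ρ_d m m' h) u)

/-- The shifted degrees. -/
def sh (k : ℕ → ℤ) : ℕ → ℤ
  | 0 => k 0 + 1
  | n + 1 => k n

lemma add_eq {k : ℕ → ℤ} (hk : ∀ n, k (n + 1) + 1 = k n) (n : ℕ) : k n + n = k 0 := by
  induction n with
  | zero => simp
  | succ n ih =>
    have := hk n
    push_cast
    lia

lemma sh_add_eq {k : ℕ → ℤ} (hk : ∀ n, k (n + 1) + 1 = k n) (n : ℕ) : sh k n + n = k 0 + 1 := by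
  rcases n with _ | n
  · simp [sh]
  · have := add_eq hk n
    change k n + ((n + 1 : ℕ) : ℤ) = _
    push_cast
    lia

lemma sg_k {k : ℕ → ℤ} (hk : ∀ n, k (n + 1) + 1 = k n) (n : ℕ) :
    sg (k (n + 1)) (n + 1) = (k (n + 1)).negOnePow * sg (k n) n := by
  rw [sg_succ, hk]

lemma neg_k {k : ℕ → ℤ} (hk : ∀ n, k (n + 1) + 1 = k n) (n : ℕ) :
    (k n).negOnePow = -(k (n + 1)).negOnePow := by
  rw [← hk n, Int.negOnePow_succ]

lemma smul_cancel {M : AddCommGrpCat.{w}} (s t : ℤˣ) (x : M) : (0 : M) = (s * t) • x + (-s * t) • x := by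
  rw [neg_mul, Units.neg_smul, add_neg_cancel]

theorem elDesc_of_isDesc (hA : BB A) (h : IsDesc A) : ElDesc A := by
  intro k hk u v hu hv0 hv
  have hq : QuasiIso (total.map (α A) (up ℤ)) := h
  have hc := isConeElt_of_quasiIso (f := total.map (α A) (up ℤ))
  obtain ⟨w, hw⟩ := exists_cmp hA (k 0) k (add_eq hk) (fun n => sg (k n) n • v n)
  have hw' : (total.map (α A) (up ℤ)).f (k 0 + 1) ((ρ A (k 0 + 1)).hom u) =
      ((DC A).total (up ℤ)).d (k 0) (k 0 + 1) w := by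
    refine ext_cmp hA (k 0 + 1) (sh k) (sh_add_eq hk) fun n => ?_
    rcases n with _ | n
    · erw [cmp_ρ_zero, cmp_d_zero _ _ (k 0) _ rfl rfl rfl, hw 0]
      rw [map_units_smul, sg_zero, one_smul, hv0]
    · refine (cmp_ρ_succ _ _ _ _).trans ?_
      refine Eq.trans ?_ (cmp_d_succ (k 0) (k 0 + 1) (k (n + 1)) (k n) n rfl (hk n)
          (by have := add_eq hk n; lia) _).symm
      rw [hw n, hw (n + 1), map_units_smul, map_units_smul, hv n, sg_k hk n, neg_k hk n, smul_smul]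
      exact smul_cancel _ _ _
  obtain ⟨x', z', hx', hz'⟩ := hc (k 1) (k 0) (k 0 + 1) (k 0 + 1 + 1) (hk 0) rfl rfl
    ((ρ A (k 0 + 1)).hom u) w (by rw [d_ρ _ _ rfl, hu, map_zero]) hw'
  refine ⟨(ρ A (k 0)).inv x', fun n => - (sg (k n) n • cmp (k 1) (k (n + 1)) n z'), ?_, ?_, fun n => ?_⟩
  · apply hom_inj (ρ A (k 0 + 1))
    rw [← d_ρ _ _ rfl, inv_hom, hx']
  · have h1 := congrArg (cmp (k 0) (k 0) 0) hz'
    rw [← inv_hom (ρ A (k 0)) x'] at h1
    rw [map_add] at h1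
    erw [cmp_ρ_zero, hw 0, cmp_d_zero (k 1) (k 0) (k 1) (k 0) (hk 0) (hk 0) rfl] at h1
    rw [map_neg, map_units_smul, sg_zero, one_smul]
    rw [sg_zero, one_smul] at h1
    rw [h1]
    abel
  · have h1 := congrArg (cmp (k 0) (k (n + 1)) (n + 1)) hz'
    rw [← inv_hom (ρ A (k 0)) x'] at h1
    rw [map_add] at h1
    erw [cmp_ρ_succ, hw (n + 1), cmp_d_succ (k 1) (k 0) (k (n + 2)) (k (n + 1)) n (hk 0) (hk (n + 1))
      (by have := add_eq hk n; have := hk n; lia)] at h1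
    rw [map_neg, map_neg, map_units_smul, map_units_smul]
    have h2 := congrArg (sg (k (n + 1)) (n + 1) • ·) h1
    dsimp only at h2
    rw [smul_zero, smul_add, smul_smul, sg_sq, one_smul, smul_add, smul_smul] at h2
    have h3 : sg (k (n + 1)) (n + 1) * (k (n + 1)).negOnePow = sg (k n) n := by
      rw [sg_k hk n, mul_comm, ← mul_assoc, Int.units_mul_self, one_mul]
    rw [h3] at h2
    have h4 := eq_neg_of_add_eq_zero_left h2.symm
    rw [h4, neg_add]

lemma exists_k (q : ℤ) : ∃ k : ℕ → ℤ, (∀ n, k (n + 1) + 1 = k n) ∧ k 0 = q :=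
  ⟨fun n => q - n, fun n => by push_cast; ring, by simp⟩

lemma add_eq' {k : ℕ → ℤ} (hk : ∀ n, k (n + 1) + 1 = k n) (n : ℕ) : k (n + 1) + n = k 1 := by
  have h1 := add_eq hk n
  have h2 := hk n
  have h3 := hk 0
  lia

theorem isDesc_of_elDesc (hA : BB A) (h : ElDesc A) : IsDesc A := by
  apply quasiIso_of_isConeElt
  rintro p q _ _ hpq rfl rfl u v hu huv
  obtain ⟨k, hk, rfl⟩ := exists_k q
  obtain rfl : p = k 1 := by have := hk 0; lia
  have hv0 : df A (k 0) (k 0 + 1) (ob 0) (sg (k 0) 0 • cmp (k 0) (k 0) 0 v) =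
      au A (k 0 + 1) ((ρ A (k 0 + 1)).inv u) := by
    have h1 := congrArg (cmp (k 0 + 1) (k 0 + 1) 0) huv
    rw [← inv_hom (ρ A (k 0 + 1)) u] at h1
    erw [cmp_ρ_zero, cmp_d_zero (k 0) (k 0 + 1) (k 0) (k 0 + 1) rfl rfl rfl] at h1
    rw [map_units_smul, sg_zero, one_smul, ← h1]
  have hv : ∀ n, df A (k (n + 1)) (k n) (ob (n + 1)) (sg (k (n + 1)) (n + 1) • cmp (k 0) (k (n + 1)) (n + 1) v) =
      de A (k n) n (sg (k n) n • cmp (k 0) (k n) n v) := by
    intro n
    have h1 := congrArg (cmp (k 0 + 1) (k n) (n + 1)) huv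
    rw [← inv_hom (ρ A (k 0 + 1)) u] at h1
    erw [cmp_ρ_succ, cmp_d_succ (k 0) (k 0 + 1) (k (n + 1)) (k n) n rfl (hk n)
      (by have := add_eq hk n; lia)] at h1
    rw [map_units_smul, map_units_smul, eq_neg_of_add_eq_zero_left h1.symm, sg_k hk n, neg_k hk n,
      Units.neg_smul, neg_neg, smul_smul]
    congr 1
    rw [mul_comm, ← mul_assoc, Int.units_mul_self, one_mul]
  obtain ⟨x, z, hx, hz0, hz⟩ := h k hk ((ρ A (k 0 + 1)).inv u) (fun n => sg (k n) n • cmp (k 0) (k n) n v) (by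
    apply hom_inj (ρ A (k 0 + 1 + 1))
    rw [← d_ρ _ _ rfl, inv_hom, map_zero]
    exact hu) hv0 hv
  obtain ⟨w, hw⟩ := exists_cmp hA (k 1) (fun n => k (n + 1)) (add_eq' hk) (fun n => sg (k n) n • z n)
  refine ⟨(ρ A (k 0)).hom x, -w, ?_, ?_⟩
  · rw [d_ρ _ _ rfl, hx, inv_hom]
  · refine ext_cmp hA (k 0) k (add_eq hk) fun n => ?_
    rcases n with _ | n
    · refine (cmp_ρ_zero _ _).trans ?_
      rw [map_neg, map_add, map_neg]
      erw [cmp_d_zero (k 1) (k 0) (k 1) (k 0) (hk 0) (hk 0) rfl, hw 0]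
      rw [map_units_smul, sg_zero, one_smul]
      dsimp only at hz0
      rw [sg_zero, one_smul] at hz0
      rw [hz0]
      abel
    · refine (cmp_ρ_succ _ _ _ _).trans ?_
      rw [map_neg, map_add, map_neg]
      erw [cmp_d_succ (k 1) (k 0) (k (n + 2)) (k (n + 1)) n (hk 0) (hk (n + 1))
        (by have := add_eq hk n; have := hk n; lia), hw n, hw (n + 1)]
      have h1 := hz n
      have h2 := congrArg (sg (k (n + 1)) (n + 1) • ·) h1
      dsimp only at h2
      rw [smul_smul, sg_sq, one_smul, smul_add] at h2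
      rw [h2, map_units_smul, map_units_smul, smul_smul, ← sg_k hk n]
      exact (add_neg_cancel _).symm

theorem isDesc_iff (hA : BB A) : IsDesc A ↔ ElDesc A :=
  ⟨elDesc_of_isDesc hA, isDesc_of_elDesc hA⟩

end main

/-! ### Universe lift -/

section ulift

/-- The universe lift of a complex of functors. -/
noncomputable abbrev UA {E : Type*} [Category* E] (A : CochainComplex (E ⥤ AddCommGrpCat.{w}) ℤ) :
    CochainComplex (E ⥤ AddCommGrpCat.{max w v}) ℤ :=
  (((Functor.whiskeringRight E _ _).obj AddCommGrpCat.uliftFunctor.{v, w}).mapHomologicalComplex (up ℤ)).obj A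

/-- Lifting elements. -/
def up' {i : ℤ} {x : Dp} (a : vl A i x) : vl (UA.{v} A) i x := ULift.up a

/-- Lowering elements. -/
def dn {i : ℤ} {x : Dp} (a : vl (UA.{v} A) i x) : vl A i x := ULift.down a

lemma dn_inj {i : ℤ} {x : Dp} {a b : vl (UA.{v} A) i x} (h : dn A a = dn A b) : a = b := ULift.ext _ _ h

lemma dn_df {i j : ℤ} {x : Dp} (a : vl (UA.{v} A) i x) : dn A (df (UA.{v} A) i j x a) = df A i j x (dn A a) := rfl

lemma dn_au {i : ℤ} (a : vl (UA.{v} A) i WithInitial.star) : dn A (au (UA.{v} A) i a) = au A i (dn A a) := rfl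

lemma dd_apply (P : SimplexCategory ⥤ AddCommGrpCat.{w}) (n : ℕ) (x : P.obj (SimplexCategory.mk n)) :
    dd P n x = ∑ i : Fin (n + 2), (-1 : ℤ) ^ (i : ℕ) • P.map (SimplexCategory.δ i) x := by
  let φ : (P.obj (SimplexCategory.mk n) ⟶ P.obj (SimplexCategory.mk (n + 1))) →+
      P.obj (SimplexCategory.mk (n + 1)) :=
    { toFun := fun g => g x
      map_zero' := rfl
      map_add' := fun _ _ => rfl }
  exact map_sum φ _ _

lemma dn_de {i : ℤ} {n : ℕ} (a : vl (UA.{v} A) i (ob n)) : dn A (de (UA.{v} A) i n a) = de A i n (dn A a) := by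
  have h1 := dd_apply ((rF _).obj ((UA.{v} A).X i)) n a
  have h2 := dd_apply ((rF _).obj (A.X i)) n (dn A a)
  let φ : vl (UA.{v} A) i (ob (n + 1)) →+ vl A i (ob (n + 1)) :=
    { toFun := dn A
      map_zero' := rfl
      map_add' := fun _ _ => rfl }
  refine (congrArg φ h1).trans ?_
  refine Eq.trans ?_ h2.symm
  rw [map_sum]
  rfl

theorem elDesc_ulift_iff : ElDesc (UA.{v} A) ↔ ElDesc A := by
  constructor
  · intro h k hk u v hu hv0 hv
    obtain ⟨x, z, hx, hz0, hz⟩ := h k hk (up' A u) (fun n => up' A (v n)) (dn_inj A hu) (dn_inj A hv0)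
      (fun n => dn_inj A (by rw [dn_df, dn_de]; exact hv n))
    refine ⟨dn A x, fun n => dn A (z n), ?_, ?_, fun n => ?_⟩
    · rw [← dn_df, hx]
      rfl
    · have h1 := congrArg (dn A) hz0
      exact h1
    · have h1 := congrArg (dn A) (hz n)
      rw [← dn_de, ← dn_df]
      exact h1
  · intro h k hk u v hu hv0 hv
    obtain ⟨x, z, hx, hz0, hz⟩ := h k hk (dn A u) (fun n => dn A (v n)) (by rw [← dn_df, hu]; rfl)
      (by rw [← dn_df, ← dn_au, hv0])
      (fun n => by rw [← dn_df, ← dn_de, hv n])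
    refine ⟨up' A x, fun n => up' A (z n), ?_, ?_, fun n => ?_⟩
    · exact dn_inj A hx
    · exact dn_inj A hz0
    · apply dn_inj A
      refine (hz n).trans ?_
      change _ = dn A _ + dn A _
      rw [dn_de]
      rfl

lemma bb_ulift (hA : BB A) : BB (UA.{v} A) := by
  obtain ⟨a, ha⟩ := hA
  exact ⟨a, fun i hi => ((Functor.whiskeringRight Dp _ _).obj AddCommGrpCat.uliftFunctor.{v, w}).map_isZero (ha i hi)⟩

end ulift

end K290.ElDesc
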