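import Groth.Agent.FibDesc.K290.Hyp
import Groth.Agent.FibDesc.K781.Crit
import Groth.Agent.FibDesc.K438.Rows
import Groth.Agent.FibDesc.K437.Fub

/-!
# Hypercoverings for the topology of universal cohomological descent are of cohomological descent
-/

set_option autoImplicit false
set_option backward.isDefEq.respectTransparency false
set_option backward.isDefEq.respectTransparency.types false

universe u v w

open CategoryTheory CategoryTheory.Limits Opposite ComplexShape Simplicial FibDesc TopologicalSpace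

namespace K290.Hyp

open K781.Desc K290.ElDesc K290.LocEx K290.Small K781.Row K781.Crit K781.God K781.Cech K781.Site

section

variable {C : Type u} [Category.{v} C] {W : MorphismProperty C}

/-- The face maps. -/
def dl {n : ℕ} (i : Fin (n + 2)) : (ob n : Dp) ⟶ ob (n + 1) := WithInitial.incl.map (SimplexCategory.δ i)

lemma dl_init (σ : Dpᵒᵖ ⥤ C) {n : ℕ} (i : Fin (n + 2)) :
    σ.map (dl i).op ≫ σ.map (init (ob n)).op = σ.map (init (ob (n + 1))).op := by
  rw [← σ.map_comp, ← op_comp, init_comp]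

/-- Hypercoverings are stable under base change. -/
theorem LHW.baseChange {σ σ' : Dpᵒᵖ ⥤ C} (h : LHW W σ.rightOp) (φ : σ' ⟶ σ)
    (hφ : ∀ x : Dp, IsPullback (φ.app (op x)) (σ'.map (init x).op) (σ.map (init x).op) (φ.app (op .star))) :
    LHW W σ'.rightOp where
  zero V e := by
    obtain ⟨V', g, hg, z, hz⟩ := h.zero (V := V) (e ≫ φ.app (op .star))
    have hz' : z ≫ σ.map (init (ob 0)).op = (g ≫ e) ≫ φ.app (op .star) := by
      rw [Category.assoc]
      exact hz
    exact ⟨V', g, hg, (hφ (ob 0)).lift z (g ≫ e) hz', (hφ (ob 0)).lift_snd _ _ _⟩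
  one V y₀ y₁ hy := by
    have hy' : y₀ ≫ σ'.map (init (ob 0)).op = y₁ ≫ σ'.map (init (ob 0)).op := hy
    have sq := (hφ (ob 0)).w
    obtain ⟨V', g, hg, z, hz0, hz1⟩ := h.one (V := V) (y₀ ≫ φ.app (op (ob 0))) (y₁ ≫ φ.app (op (ob 0))) (by
      change (y₀ ≫ φ.app (op (ob 0))) ≫ σ.map (init (ob 0)).op = (y₁ ≫ φ.app (op (ob 0))) ≫ σ.map (init (ob 0)).op
      rw [Category.assoc, Category.assoc, sq, ← Category.assoc, hy', Category.assoc])
    have hi : ∀ i : Fin 2, σ.map (dl i).op ≫ σ.map (init (ob 0)).op = σ.map (init (ob 1)).op := dl_init σ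
    have hi' : ∀ i : Fin 2, σ'.map (dl i).op ≫ σ'.map (init (ob 0)).op = σ'.map (init (ob 1)).op := dl_init σ'
    have hz0' : z ≫ σ.map (dl (0 : Fin 2)).op = g ≫ y₀ ≫ φ.app (op (ob 0)) := hz0
    have hz1' : z ≫ σ.map (dl (1 : Fin 2)).op = g ≫ y₁ ≫ φ.app (op (ob 0)) := hz1
    have hz' : z ≫ σ.map (init (ob 1)).op = (g ≫ y₀ ≫ σ'.map (init (ob 0)).op) ≫ φ.app (op .star) := by
      rw [← hi 0, reassoc_of% hz0', sq, Category.assoc, Category.assoc]
    have key : ∀ (i : Fin 2) (y : V ⟶ σ'.obj (op (ob 0))), y ≫ σ'.map (init (ob 0)).op = y₀ ≫ σ'.map (init (ob 0)).op →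
        z ≫ σ.map (dl i).op = g ≫ y ≫ φ.app (op (ob 0)) →
        (hφ (ob 1)).lift z _ hz' ≫ σ'.map (dl i).op = g ≫ y := by
      intro i y h1 h2
      apply (hφ (ob 0)).hom_ext
      · rw [Category.assoc, Category.assoc, ← h2, φ.naturality, (hφ (ob 1)).lift_fst_assoc]
      · rw [Category.assoc, hi', (hφ (ob 1)).lift_snd, Category.assoc, h1]
    exact ⟨V', g, hg, (hφ (ob 1)).lift z _ hz', key 0 y₀ rfl hz0', key 1 y₁ hy'.symm hz1'⟩
  succ n V y hy := by
    have sq := (hφ (ob (n + 1))).w
    have hi : ∀ i : Fin (n + 3), σ.map (dl i).op ≫ σ.map (init (ob (n + 1))).op =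
        σ.map (init (ob (n + 2))).op := dl_init σ
    have hi' : ∀ i : Fin (n + 3), σ'.map (dl i).op ≫
        σ'.map (init (ob (n + 1))).op = σ'.map (init (ob (n + 2))).op := dl_init σ'
    have hj' : ∀ i : Fin (n + 2), σ'.map (dl i).op ≫
        σ'.map (init (ob n)).op = σ'.map (init (ob (n + 1))).op := dl_init σ'
    have hy' : ∀ i j : Fin (n + 2), i ≤ j → y j.succ ≫ σ'.map (dl i).op =
      y i.castSucc ≫ σ'.map (dl j).op := hy
    have hy0 : ∀ i, y i ≫ σ'.map (init (ob (n + 1))).op = y 0 ≫ σ'.map (init (ob (n + 1))).op := by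
      intro i
      induction i using Fin.cases with
      | zero => rfl
      | succ j =>
        rw [← hj' 0, ← Category.assoc, hy' 0 j (Fin.zero_le j), Category.assoc, hj', hj' 0]
        rfl
    obtain ⟨V', g, hg, z, hz⟩ := h.succ (V := V) (fun i => y i ≫ φ.app (op (ob (n + 1)))) (fun i j hij => by
      change (y j.succ ≫ φ.app (op (ob (n + 1)))) ≫ σ.map (dl i).op =
        (y i.castSucc ≫ φ.app (op (ob (n + 1)))) ≫ σ.map (dl j).op
      rw [Category.assoc, Category.assoc, ← φ.naturality, ← φ.naturality, ← Category.assoc, hy' i j hij,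
        Category.assoc])
    have hz0 : ∀ i, z ≫ σ.map (dl i).op =
      g ≫ y i ≫ φ.app (op (ob (n + 1))) := hz
    have hz' : z ≫ σ.map (init (ob (n + 2))).op = (g ≫ y 0 ≫ σ'.map (init (ob (n + 1))).op) ≫ φ.app (op .star) := by
      rw [← hi 0, reassoc_of% (hz0 0), sq, Category.assoc, Category.assoc]
    refine ⟨V', g, hg, (hφ (ob (n + 2))).lift z _ hz', fun i => ?_⟩
    change (hφ (ob (n + 2))).lift z _ hz' ≫ σ'.map (dl i).op = g ≫ y i
    apply (hφ (ob (n + 1))).hom_ext
    · rw [Category.assoc, Category.assoc, ← hz0 i, φ.naturality, (hφ (ob (n + 2))).lift_fst_assoc]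
    · rw [Category.assoc, hi', (hφ (ob (n + 2))).lift_snd, Category.assoc, hy0 i]

theorem LHW.of_iso {σ σ' : Dpᵒᵖ ⥤ C} (h : LHW W σ.rightOp) (e : σ' ≅ σ) : LHW W σ'.rightOp :=
  h.baseChange e.hom fun _ => IsPullback.of_horiz_isIso ⟨(e.hom.naturality _).symm⟩

end

section top

variable (S : TopCat.{u})

/-- Universal cohomological descent, over a base. -/
def Wm : MorphismProperty (Over S) := fun _ _ f => IsUnivCohDescentMap f.left

instance : (Wm S).IsStableUnderBaseChange where
  of_isPullback sq hg := K437.FD.univ_of_sq _ _ _ _ (sq.map (Over.forget S)) hg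

instance : (Wm S).IsMultiplicative where
  id_mem T := isUnivCohDescentMap_of_section _ (𝟙 _) (by simp)
  comp_mem f g hf hg := K437.FD.univ_comp f.left g.left hf hg

variable {S}

lemma desc_nerve (P : (Over S)ᵒᵖ ⥤ AddCommGrpCat.{u}) (hP : IsCart P) {X T : Over S} (f : X ⟶ T) (hf : Wm S f) :
    DescP P (nerve f) :=
  desc_of_univ f.left hf P hP (nerve f) (isCech_nerve f) (nerveZero f).hom.left (𝟙 _)
    (IsPullback.of_horiz_isIso ⟨by
      rw [Category.comp_id]
      exact congrArg CommaMorphism.left (nerveZero_hom f)⟩)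

theorem descP_of_lhw (P : (Over S)ᵒᵖ ⥤ AddCommGrpCat.{u}) (hP : IsCart P) (τ : Dpᵒᵖ ⥤ Over S)
    (h : LHW (Wm S) τ.rightOp) : DescP P τ :=
  isDesc_of_lhw (Wm S) (bb_G P) (fun _ _ f hf => desc_nerve P hP f hf) h

/-- Hypercoverings for the topology of universal cohomological descent are of cohomological descent. -/
theorem coh_of_lhw (Z : Dpᵒᵖ ⥤ TopCat.{u}) (h : LHW (Wm (Z.obj (op .star))) (lift Z (𝟙 _)).rightOp) :
    IsCohDescentTop Z := by
  refine crit₂ Z Set.univ ?_ ?_
  · rw [TopologicalSpace.Opens.isBasis_iff_nbhd]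
    exact fun {U x} hx => ⟨U, trivial, hx, le_rfl⟩
  · intro P hP U _
    exact descP_of_lhw P hP _ (h.baseChange (subDι (lift Z (𝟙 _)) U) (isPullback_subDι (lift Z (𝟙 _)) U))

variable [∀ (n : ℕ) (G : (SimplexCategory.Truncated n)ᵒᵖ ⥤ Over S),
      (SimplexCategory.Truncated.inclusion n).op.HasRightKanExtension G]

/-- The augmented simplicial space of a simplicial space over `S`. -/
noncomputable abbrev augS (K : SimplicialObject (Over S)) : Dpᵒᵖ ⥤ TopCat.{u} :=
  AugmentedSimplexCategory.equivAugmentedSimplicialObject.inverse.obj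
    (SimplicialObject.augment (K ⋙ Over.forget S) S (K.obj (op (SimplexCategory.mk 0))).hom
      (fun _ g₁ g₂ => (Over.w (K.map g₁.op)).trans (Over.w (K.map g₂.op)).symm))

/-- The augmented simplicial object over the final object, in `Over S`. -/
noncomputable abbrev augO (K : SimplicialObject (Over S)) : Dpᵒᵖ ⥤ Over S :=
  AugmentedSimplexCategory.equivAugmentedSimplicialObject.inverse.obj
    (SimplicialObject.augment K (Over.mk (𝟙 S)) (Over.mkIdTerminal.from _) (fun _ _ _ => Over.mkIdTerminal.hom_ext _ _))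

omit [∀ (n : ℕ) (G : (SimplexCategory.Truncated n)ᵒᵖ ⥤ Over S),
      (SimplexCategory.Truncated.inclusion n).op.HasRightKanExtension G] in
lemma augS_w (K : SimplicialObject (Over S)) (n : SimplexCategory) :
    (augS K).map (init (WithInitial.of n)).op = (K.obj (op n)).hom :=
  Over.w (K.map (SimplexCategory.const _ _ 0).op)

/-- The comparison. -/
noncomputable def compIso (K : SimplicialObject (Over S)) (x : Dpᵒᵖ) :
    (lift (augS K) (𝟙 S)).obj x ≅ (augO K).obj x :=
  match x with
  | ⟨.of n⟩ => Over.isoMk (Iso.refl _) (((Category.id_comp _).trans (augS_w K n).symm).trans (Category.comp_id _).symm)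
  | ⟨.star⟩ => Over.isoMk (Iso.refl _) ((Category.comp_id (𝟙 S)).trans
      (((Category.comp_id _).trans ((augS K).map_id (op .star))).symm))

/-- The comparison. -/
noncomputable def augIso (K : SimplicialObject (Over S)) : lift (augS K) (𝟙 S) ≅ augO K :=
  NatIso.ofComponents (compIso K) (by
    rintro ⟨x⟩ ⟨y⟩ ⟨f⟩
    apply CommaMorphism.ext
    · rcases x with n | _ <;> rcases y with m | _
      · change ((augS K).map (op f)) ≫ 𝟙 _ = 𝟙 _ ≫ ((augO K).map (op f)).left
        rw [Category.comp_id, Category.id_comp]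
        rfl
      · change ((augS K).map (op f)) ≫ 𝟙 _ = 𝟙 _ ≫ ((augO K).map (op f)).left
        rw [Category.comp_id, Category.id_comp]
        exact (augS_w K n).trans ((Category.comp_id _).symm.trans (Over.w ((augO K).map (op f)))).symm
      · exact PEmpty.elim f
      · change ((augS K).map (op f)) ≫ 𝟙 _ = 𝟙 _ ≫ ((augO K).map (op f)).left
        rw [Category.comp_id, Category.id_comp]
        exact ((augS K).map_id (op .star)).trans (congrArg CommaMorphism.left ((augO K).map_id (op .star))).symm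
    · exact Subsingleton.elim _ _)

theorem coh_of_cosk (K : SimplicialObject (Over S))
    (h0 : IsUnivCohDescentMap (K.obj (op (SimplexCategory.mk 0))).hom)
    (hn : ∀ n : ℕ, IsUnivCohDescentMap
      (((SimplicialObject.coskAdj n).unit.app K).app (op (SimplexCategory.mk (n + 1)))).left) :
    IsCohDescentTop (augS K) :=
  coh_of_lhw (augS K) ((show LHW (Wm S) (augO K).rightOp from
    lhw_of_cosk (W := Wm S) Over.mkIdTerminal K (by
      have h1 : (Over.mkIdTerminal.from (K.obj (op (SimplexCategory.mk 0)))).left =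
        (K.obj (op (SimplexCategory.mk 0))).hom :=
        (Category.comp_id _).symm.trans (Over.w (Over.mkIdTerminal.from _))
      change IsUnivCohDescentMap _
      rw [h1]
      exact h0) hn).of_iso (augIso K))

end top

end K290.Hyp
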