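import Groth.Agent.Sga4A.LocQis
import Groth.Agent.CohtopB.LocTriv
import Mathlib.Algebra.Homology.Factorizations.CM5a
import Mathlib.CategoryTheory.Abelian.GrothendieckCategory.EnoughInjectives
import Mathlib.CategoryTheory.Abelian.GrothendieckAxioms.Sheaf
import Mathlib.Algebra.Homology.Additive
import Mathlib.CategoryTheory.Preadditive.Injective.Basic

/-!
# Resolutions of complexes of abelian presheaves by injective sheaves, local form

* `locCone`: a morphism `φ` of complexes of abelian presheaves which is a quasi-isomorphism after sheafification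
  has locally an elementwise acyclic cone.
* `exists_resolution`: a bounded below complex `A` of abelian presheaves has a morphism `φ : A ⟶ I` to a bounded
  below complex of abelian sheaves, injective as presheaves, with the property of `locCone`.
-/

set_option autoImplicit false

universe w

open CategoryTheory CategoryTheory.Limits Opposite ComplexShape

namespace K290.LocCone

open Groth.Agent.Sga4A.LocQis Groth.Agent.CohtopB.LocTriv

variable {C : Type w} [SmallCategory C] {J : GrothendieckTopology C}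
  {X Y : CochainComplex (Cᵒᵖ ⥤ AddCommGrpCat.{w}) ℤ}

/-- The homology presheaf map of a morphism which is a quasi-isomorphism after sheafification. -/
lemma W_homologyMap (φ : X ⟶ Y) (k : ℤ)
    (h : QuasiIsoAt (((presheafToSheaf J AddCommGrpCat.{w}).mapHomologicalComplex (up ℤ)).map φ) k) :
    J.W (HomologicalComplex.homologyMap φ k) := by
  rw [GrothendieckTopology.W_iff]
  rw [quasiIsoAt_iff, ShortComplex.quasiIso_iff] at h
  have e := ShortComplex.mapHomologyIso_hom_naturality
    ((HomologicalComplex.shortComplexFunctor _ (up ℤ) k).map φ) (presheafToSheaf J AddCommGrpCat.{w})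
  have h3 := IsIso.comp_isIso' h (Iso.isIso_hom (ShortComplex.mapHomologyIso
    ((HomologicalComplex.shortComplexFunctor _ (up ℤ) k).obj Y) (presheafToSheaf J AddCommGrpCat.{w})))
  have h4 := e ▸ h3
  exact @IsIso.of_isIso_comp_left _ _ _ _ _ _ _ (Iso.isIso_hom _) h4

/-- Elementwise local acyclicity of the cone. -/
def IsLocCone (J : GrothendieckTopology C) (φ : X ⟶ Y) : Prop :=
  ∀ (T : C) (p q r s : ℤ) (_ : p + 1 = q) (_ : q + 1 = r) (_ : r + 1 = s) (u : (X.X r).obj (op T))
    (v : (Y.X q).obj (op T)), (X.d r s).app _ u = 0 → (φ.f r).app _ u = (Y.d q r).app _ v →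
    Loc J T (fun W g => ∃ (x : (X.X q).obj (op W)) (z : (Y.X p).obj (op W)),
      (X.d q r).app _ x = (X.X r).map g.op u ∧ (φ.f q).app _ x = (Y.X q).map g.op v + (Y.d p q).app _ z)

section elts

lemma app_map {P Q : Cᵒᵖ ⥤ AddCommGrpCat.{w}} (f : P ⟶ Q) {U V : Cᵒᵖ} (g : U ⟶ V) (x : P.obj U) :
    f.app V (P.map g x) = Q.map g (f.app U x) :=
  congr($(f.naturality g) x)

lemma comp_f_app (φ : X ⟶ Y) (i j : ℤ) {U : Cᵒᵖ} (x : (X.X i).obj U) :
    (φ.f j).app U ((X.d i j).app U x) = (Y.d i j).app U ((φ.f i).app U x) := by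
  have h := congr(($(φ.comm i j)).app U x)
  exact h.symm

lemma d_d_app (i j k : ℤ) {U : Cᵒᵖ} (x : (X.X i).obj U) : (X.d j k).app U ((X.d i j).app U x) = 0 :=
  congr(($(X.d_comp_d i j k)).app U x)

lemma exists_boundary' (X : CochainComplex (Cᵒᵖ ⥤ AddCommGrpCat.{w}) ℤ) (k k' : ℤ) (h : (up ℤ).prev k = k')
    (U : C) (z : (X.cycles k).obj (op U)) (hz : (X.homologyπ k).app (op U) z = 0) :
    ∃ b : (X.X k').obj (op U), (X.toCycles k' k).app (op U) b = z := by
  subst h
  exact exists_boundary X k U z hz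

end elts

theorem locCone (φ : X ⟶ Y)
    (h : QuasiIso (((presheafToSheaf J AddCommGrpCat.{w}).mapHomologicalComplex (up ℤ)).map φ)) :
    IsLocCone J φ := by
  rintro T p q r s hpq hqr hrs u v hu huv
  have hW : ∀ k, J.W (HomologicalComplex.homologyMap φ k) := fun k => W_homologyMap φ k (h.quasiIsoAt k)
  simp only [GrothendieckTopology.W_iff_isLocallyBijective] at hW
  have hI := (hW r).1
  have hS := (hW q).2
  have nr : (up ℤ).next r = s := (up ℤ).next_eq' hrs
  have pr : (up ℤ).prev r = q := (up ℤ).prev_eq' hqr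
  have nq : (up ℤ).next q = r := (up ℤ).next_eq' hqr
  have pq : (up ℤ).prev q = p := (up ℤ).prev_eq' hpq
  obtain ⟨zu, rfl⟩ := exists_cycle X r T u (by rw [nr]; exact hu)
  -- the class of `u` is locally zero
  have h1 : (HomologicalComplex.homologyMap φ r).app (op T) ((X.homologyπ r).app (op T) zu) =
      (HomologicalComplex.homologyMap φ r).app (op T) 0 := by
    have e1 : (HomologicalComplex.cyclesMap φ r).app (op T) zu = (Y.toCycles q r).app (op T) v := by
      apply iCycles_injective Y r T
      have e2 := congr(($(HomologicalComplex.cyclesMap_i φ r)).app (op T) zu)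
      have e3 := congr(($(HomologicalComplex.toCycles_i Y q r)).app (op T) v)
      refine e2.trans (huv.trans e3.symm)
    have e4 := congr(($(HomologicalComplex.homologyπ_naturality φ r)).app (op T) zu)
    have e5 := congr(($(HomologicalComplex.toCycles_comp_homologyπ Y q r)).app (op T) v)
    rw [map_zero]
    refine e4.trans ?_
    change (Y.homologyπ r).app (op T) ((HomologicalComplex.cyclesMap φ r).app (op T) zu) = 0
    rw [e1]
    exact e5
  have h2 : Loc J T (fun W g => ∃ b : (X.X q).obj (op W), (X.d q r).app _ b =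
      (X.X r).map g.op ((X.iCycles r).app _ zu)) := by
    refine ⟨Presheaf.equalizerSieve (F := X.homology r) ((X.homologyπ r).app (op T) zu) 0,
      Presheaf.equalizerSieve_mem J (HomologicalComplex.homologyMap φ r) _ _ h1, fun W g hg => ?_⟩
    have hg' : (X.homology r).map g.op ((X.homologyπ r).app (op T) zu) = (X.homology r).map g.op 0 := hg
    rw [map_zero, ← app_map] at hg'
    obtain ⟨b, hb⟩ := exists_boundary' X r q pr W _ hg'
    refine ⟨b, ?_⟩
    have e3 := congr(($(HomologicalComplex.toCycles_i X q r)).app (op W) b)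
    rw [← app_map, ← hb]
    exact e3.symm
  refine h2.bind fun W g hg => ?_
  obtain ⟨b, hb⟩ := hg
  -- the difference
  obtain ⟨y, hy0⟩ : ∃ y : (Y.X q).obj (op W), y = (Y.X q).map g.op v - (φ.f q).app _ b := ⟨_, rfl⟩
  have hy : (Y.d q r).app _ y = 0 := by
    rw [hy0, map_sub, app_map, ← huv, ← comp_f_app, hb, app_map, sub_self]
  obtain ⟨zy, hzy⟩ := exists_cycle Y q W y (by rw [nq]; exact hy)
  refine ⟨Presheaf.imageSieve (HomologicalComplex.homologyMap φ q) ((Y.homologyπ q).app (op W) zy),
    Presheaf.imageSieve_mem J (HomologicalComplex.homologyMap φ q) _, fun W' g' hg' => ?_⟩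
  obtain ⟨t, ht⟩ := hg'
  obtain ⟨zx, rfl⟩ := exists_rep X q W' t
  have e4 := congr(($(HomologicalComplex.homologyπ_naturality φ q)).app (op W') zx)
  have e6 : (Y.homologyπ q).app (op W') ((HomologicalComplex.cyclesMap φ q).app (op W') zx -
      (Y.cycles q).map g'.op zy) = 0 := by
    rw [map_sub, app_map, sub_eq_zero]
    exact e4.symm.trans ht
  obtain ⟨c, hc⟩ := exists_boundary' Y q p pq W' _ e6
  have e7 : (φ.f q).app _ ((X.iCycles q).app _ zx) = (Y.X q).map g'.op y + (Y.d p q).app _ c := by
    have e2 := congr(($(HomologicalComplex.cyclesMap_i φ q)).app (op W') zx)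
    have e3 := congr(($(HomologicalComplex.toCycles_i Y p q)).app (op W') c)
    have e8 : (Y.iCycles q).app (op W') ((Y.toCycles p q).app (op W') c) = (Y.d p q).app _ c := e3
    have e9 : (φ.f q).app (op W') ((X.iCycles q).app _ zx) =
      (Y.iCycles q).app _ ((HomologicalComplex.cyclesMap φ q).app (op W') zx) := e2.symm
    rw [e9, ← e8, hc, map_sub, app_map, hzy]
    abel
  refine ⟨(X.X q).map g'.op b + (X.iCycles q).app _ zx, c, ?_, ?_⟩
  · have e10 := congr(($(HomologicalComplex.iCycles_d X q r)).app (op W') zx)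
    have e11 : (X.d q r).app _ ((X.iCycles q).app _ zx) = 0 := e10
    rw [map_add, e11, add_zero, app_map, hb, op_comp, (X.X r).map_comp]
    rfl
  · rw [map_add, e7, app_map]
    have e12 : (Y.X q).map g'.op y = (Y.X q).map g'.op ((Y.X q).map g.op v) -
        (Y.X q).map g'.op ((φ.f q).app _ b) := by rw [hy0, map_sub]
    have e13 : (Y.X q).map (g' ≫ g).op v = (Y.X q).map g'.op ((Y.X q).map g.op v) := by
      rw [op_comp, (Y.X q).map_comp]
      rfl
    rw [e12, e13]
    abel

lemma exists_adj {P S : Type*} [Category* P] [Category* S] [Preadditive P] [Preadditive S] {a : P ⥤ S} {s : S ⥤ P}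
    (adj : a ⊣ s) [a.Additive] [s.Additive] (A : CochainComplex P ℤ) (L : CochainComplex S ℤ)
    (i : (a.mapHomologicalComplex (up ℤ)).obj A ⟶ L) :
    ∃ (φ : A ⟶ (s.mapHomologicalComplex (up ℤ)).obj L)
      (ψ : (a.mapHomologicalComplex (up ℤ)).obj ((s.mapHomologicalComplex (up ℤ)).obj L) ⟶ L),
      (∀ n, ψ.f n = adj.counit.app (L.X n)) ∧ (a.mapHomologicalComplex (up ℤ)).map φ ≫ ψ = i := by
  let i' : ∀ n, a.obj (A.X n) ⟶ L.X n := fun n => i.f n
  have hi' : ∀ m n, i' m ≫ L.d m n = a.map (A.d m n) ≫ i' n := fun m n => i.comm m n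
  refine ⟨{ f := fun n => adj.unit.app (A.X n) ≫ s.map (i' n)
            comm' := fun m n _ => ?_ },
    { f := fun n => adj.counit.app (L.X n)
      comm' := fun m n _ => (adj.counit.naturality (L.d m n)).symm }, fun n => rfl, ?_⟩
  · have h2 : A.d m n ≫ adj.unit.app (A.X n) = adj.unit.app (A.X m) ≫ s.map (a.map (A.d m n)) :=
      adj.unit.naturality _
    change (adj.unit.app (A.X m) ≫ s.map (i' m)) ≫ s.map (L.d m n) = _
    rw [Category.assoc, ← s.map_comp, hi', s.map_comp, reassoc_of% h2]
    rfl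
  · ext1 n
    change a.map (adj.unit.app (A.X n) ≫ s.map (i' n)) ≫ adj.counit.app (L.X n) = i' n
    rw [a.map_comp, Category.assoc]
    have h2 : a.map (s.map (i' n)) ≫ adj.counit.app (L.X n) = adj.counit.app (a.obj (A.X n)) ≫ i' n :=
      adj.counit.naturality (i' n)
    rw [h2]
    exact adj.left_triangle_components_assoc _ _

/-- Resolution by injective sheaves. -/
theorem exists_resolution (J : GrothendieckTopology C) (A : CochainComplex (Cᵒᵖ ⥤ AddCommGrpCat.{w}) ℤ) (a : ℤ)
    (hA : ∀ i < a, IsZero (A.X i)) :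
    ∃ (I : CochainComplex (Cᵒᵖ ⥤ AddCommGrpCat.{w}) ℤ) (φ : A ⟶ I), (∀ i < a, IsZero (I.X i)) ∧
      (∀ i, Injective (I.X i)) ∧ (∀ i, Presheaf.IsSheaf J (I.X i)) ∧ IsLocCone J φ := by
  let a' := presheafToSheaf J AddCommGrpCat.{w}
  let s' := sheafToPresheaf J AddCommGrpCat.{w}
  let adj : a' ⊣ s' := sheafificationAdjunction J AddCommGrpCat.{w}
  let K : CochainComplex (Sheaf J AddCommGrpCat.{w}) ℤ := (a'.mapHomologicalComplex (up ℤ)).obj A
  have hK : K.IsStrictlyGE a := by
    rw [CochainComplex.isStrictlyGE_iff]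
    intro i hi
    exact a'.map_isZero (hA i hi)
  have := IsGrothendieckAbelian.enoughInjectives (C := Sheaf J AddCommGrpCat.{w})
  obtain ⟨L, i, hi, hL, hL'⟩ := CochainComplex.Plus.modelCategoryQuillen.exists_quasiIso_injective K a
  obtain ⟨φ, ψ, hψ', h1⟩ := exists_adj adj A L i
  have hψ : IsIso ψ := by
    have : ∀ n, IsIso (ψ.f n) := fun n => by
      rw [hψ']
      exact inferInstanceAs (IsIso ((sheafificationAdjunction J _).counit.app (L.X n)))
    exact HomologicalComplex.Hom.isIso_of_components ψ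
  have h2 : QuasiIso ((a'.mapHomologicalComplex (up ℤ)).map φ) := by
    have h3 : QuasiIso ((a'.mapHomologicalComplex (up ℤ)).map φ ≫ ψ) := h1 ▸ hi
    exact (quasiIso_iff_comp_right _ ψ).1 h3
  refine ⟨(s'.mapHomologicalComplex (up ℤ)).obj L, φ, fun n hn => s'.map_isZero (L.isZero_of_isStrictlyGE a n hn),
    fun n => ?_, fun n => (L.X n).property, locCone φ h2⟩
  have := hL n
  exact Injective.injective_of_adjoint adj (L.X n)

end K290.LocCone
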