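import Groth.Agent.FibDesc.K781.Extra
import Groth.Agent.CohtopB.HypHZero

/-!
# Locally fillable augmented simplicial objects of a site

`LH J σ` for `σ : Dp ⥤ Cᵒᵖ` (an augmented simplicial object of `C`): compatible boundaries of sections are
locally filled.
* `LH.ex`: if `P` is an abelian sheaf which is injective as a presheaf, then `Ex (σ ⋙ P)`.
-/

set_option autoImplicit false
set_option backward.isDefEq.respectTransparency false
set_option backward.isDefEq.respectTransparency.types false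

universe u v w

open CategoryTheory CategoryTheory.Limits Opposite Simplicial

namespace K290.LocEx

open K781.Desc Groth.Agent.CohtopB Groth.Agent.CohtopB.LocTriv

section defs

variable {C : Type u} [Category.{v} C]

/-- The objects of the augmented simplicial object. -/
abbrev pt (σ : Dp ⥤ Cᵒᵖ) (x : Dp) : C := (σ.obj x).unop

/-- The augmentation. -/
abbrev ag (σ : Dp ⥤ Cᵒᵖ) : pt σ (ob 0) ⟶ pt σ WithInitial.star := (σ.map (init (ob 0))).unop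

/-- The faces. -/
abbrev fc (σ : Dp ⥤ Cᵒᵖ) {n : ℕ} (i : Fin (n + 2)) : pt σ (ob (n + 1)) ⟶ pt σ (ob n) :=
  (σ.map (WithInitial.incl.map (SimplexCategory.δ i))).unop

/-- Compatible boundaries are locally filled. -/
structure LH (J : GrothendieckTopology C) (σ : Dp ⥤ Cᵒᵖ) : Prop where
  zero : ∀ ⦃V : C⦄ (e : V ⟶ pt σ WithInitial.star),
    Loc J V (fun W g => ∃ z : W ⟶ pt σ (ob 0), z ≫ ag σ = g ≫ e)
  one : ∀ ⦃V : C⦄ (y₀ y₁ : V ⟶ pt σ (ob 0)), y₀ ≫ ag σ = y₁ ≫ ag σ →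
    Loc J V (fun W g => ∃ z : W ⟶ pt σ (ob 1), z ≫ fc σ 0 = g ≫ y₀ ∧ z ≫ fc σ 1 = g ≫ y₁)
  succ : ∀ ⦃n : ℕ⦄ ⦃V : C⦄ (y : Fin (n + 3) → (V ⟶ pt σ (ob (n + 1)))),
    (∀ i j : Fin (n + 2), i ≤ j → y j.succ ≫ fc σ i = y i.castSucc ≫ fc σ j) →
    Loc J V (fun W g => ∃ z : W ⟶ pt σ (ob (n + 2)), ∀ i, z ≫ fc σ i = g ≫ y i)

lemma fc_ag (σ : Dp ⥤ Cᵒᵖ) (i : Fin 2) : fc σ i ≫ ag σ = (σ.map (init (ob 1))).unop := by
  rw [← unop_comp, ← σ.map_comp, init_comp]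
  rfl

/-- The simplicial part. -/
abbrev ks (σ : Dp ⥤ Cᵒᵖ) : SimplicialObject C := (WithInitial.incl ⋙ σ).leftOp

/-- The simplicial part, as a simplicial object of formal coproducts. -/
abbrev kf (σ : Dp ⥤ Cᵒᵖ) : SimplicialObject (FormalCoproduct.{w} C) := ks σ ⋙ FormalCoproduct.incl.{w} C

/-- The morphism of `C` defined by a section. -/
abbrev unS {σ : Dp ⥤ Cᵒᵖ} {n : ℕ} {V : C} (x : Sec (kf.{u, v, w} σ) n V) : V ⟶ pt σ (ob n) :=
  x.φ PUnit.unit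

/-- The section defined by a morphism of `C`. -/
abbrev mkS {σ : Dp ⥤ Cᵒᵖ} {n : ℕ} {V : C} (x : V ⟶ pt σ (ob n)) : Sec (kf.{u, v, w} σ) n V :=
  (FormalCoproduct.incl.{w} C).map x

lemma mk_un {σ : Dp ⥤ Cᵒᵖ} {n : ℕ} {V : C} (x : Sec (kf.{u, v, w} σ) n V) : mkS (unS x) = x := rfl

lemma mk_inj {σ : Dp ⥤ Cᵒᵖ} {n : ℕ} {V : C} {x y : V ⟶ pt σ (ob n)} (h : mkS.{u, v, w} x = mkS y) : x = y :=
  (FormalCoproduct.incl.{w} C).map_injective h

lemma mk_δ {σ : Dp ⥤ Cᵒᵖ} {n : ℕ} {V : C} (x : V ⟶ pt σ (ob (n + 1))) (i : Fin (n + 2)) :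
    mkS.{u, v, w} x ≫ (kf.{u, v, w} σ).δ i = mkS (x ≫ fc σ i) :=
  ((FormalCoproduct.incl.{w} C).map_comp _ _).symm

lemma rs_mk {σ : Dp ⥤ Cᵒᵖ} {n : ℕ} {V W : C} (g : W ⟶ V) (x : V ⟶ pt σ (ob n)) :
    rs g (mkS.{u, v, w} x) = mkS (g ≫ x) :=
  ((FormalCoproduct.incl.{w} C).map_comp _ _).symm

/-- The augmentation of the sections. -/
def agm (σ : Dp ⥤ Cᵒᵖ) : Augm (kf.{u, v, w} σ) (yoneda.obj (pt σ WithInitial.star)) where
  ε x := unS x ≫ ag σ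
  ε_rs g x := by
    rw [← mk_un x, rs_mk]
    exact Category.assoc _ _ _
  ε_δ x := by
    rw [← mk_un x, mk_δ, mk_δ]
    change (unS x ≫ fc σ 1) ≫ ag σ = (unS x ≫ fc σ 0) ≫ ag σ
    rw [Category.assoc, Category.assoc, fc_ag, fc_ag]

variable {J : GrothendieckTopology C}

lemma LH.isLocHyp {σ : Dp ⥤ Cᵒᵖ} (h : LH J σ) : IsLocHyp J (agm.{u, v, w} σ) where
  zero V e := (h.zero e).mono (by
    rintro W g ⟨z, hz⟩
    exact ⟨mkS z, hz⟩)
  one V y₀ y₁ hy := (h.one (unS y₀) (unS y₁) hy).mono (by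
    rintro W g ⟨z, hz0, hz1⟩
    exact ⟨mkS z, by rw [mk_δ, hz0, ← rs_mk, mk_un], by rw [mk_δ, hz1, ← rs_mk, mk_un]⟩)
  succ n V y hy := (h.succ (fun i => unS (y i)) (fun i j hij => by
      apply mk_inj.{u, v, w}
      rw [← mk_δ, ← mk_δ, mk_un, mk_un]
      exact hy i j hij)).mono (by
    rintro W g ⟨z, hz⟩
    exact ⟨mkS z, fun i => by rw [mk_δ, hz, ← rs_mk, mk_un]⟩)

end defs

section ex

variable {C : Type w} [SmallCategory C] {J : GrothendieckTopology C} (P : Cᵒᵖ ⥤ AddCommGrpCat.{w})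
  {σ : Dp ⥤ Cᵒᵖ}

open HypInj HypHZero

/-- The value at the identity section. -/
noncomputable abbrev ev1 (n : ℕ) : val P ((kf.{w, w, w} σ) _⦋n⦌) ⟶ P.obj (σ.obj (ob n)) :=
  evh P (mkS.{w, w, w} (𝟙 (pt σ (ob n))))

lemma evh_mk {n : ℕ} {V : C} (x : V ⟶ pt σ (ob n)) (s : val P ((kf.{w, w, w} σ) _⦋n⦌)) :
    evh P (mkS.{w, w, w} x) s = P.map x.op (ev1 P n s) := by
  have h1 := congr($(evh_rs P x (mkS.{w, w, w} (𝟙 (pt σ (ob n))))) s)
  have h2 : rs x (mkS.{w, w, w} (𝟙 (pt σ (ob n)))) = mkS x := by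
    rw [rs_mk, Category.comp_id]
  rw [← h2]
  exact h1

lemma ev1_inj {n : ℕ} {s t : val P ((kf.{w, w, w} σ) _⦋n⦌)} (h : ev1 P n s = ev1 P n t) : s = t :=
  val_ext P fun _ => h

lemma ev1_surj (n : ℕ) (a : P.obj (σ.obj (ob n))) : ∃ s : val P ((kf.{w, w, w} σ) _⦋n⦌), ev1 P n s = a := by
  obtain ⟨s, hs⟩ := exists_val P (L := (kf.{w, w, w} σ) _⦋n⦌) (fun V x => P.map (unS x).op a) (fun V W g x => by
    rw [← mk_un x]
    change P.map (g ≫ unS x).op a = _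
    rw [op_comp, P.map_comp]
    rfl)
  refine ⟨s, (hs _).trans ?_⟩
  change P.map (𝟙 _) a = a
  rw [P.map_id]
  rfl

lemma ev1_dd (n : ℕ) (s : val P ((kf.{w, w, w} σ) _⦋n⦌)) :
    ev1 P (n + 1) (HypInj.dd (kf.{w, w, w} σ) P n s) = K781.Desc.dd ((rF _).obj (σ ⋙ P)) n (ev1 P n s) := by
  have h1 := evh_dd (kf.{w, w, w} σ) P s (mkS.{w, w, w} (𝟙 (pt σ (ob (n + 1)))))
  refine h1.trans ?_
  refine Eq.trans ?_ (hom_sum_apply _ _ _).symm
  refine Finset.sum_congr rfl fun i _ => ?_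
  rw [mk_δ, Category.id_comp, evh_mk]
  rfl

theorem LH.ex (h : LH J σ) (hP : Presheaf.IsSheaf J P) [Injective P] : Ex (σ ⋙ P) where
  inj x hx := by
    refine eq_of_loc hP ((h.zero (𝟙 _)).mono ?_)
    rintro W g ⟨z, hz⟩
    rw [map_zero]
    rw [Category.comp_id] at hz
    rw [← hz, op_comp, P.map_comp, ConcreteCategory.comp_apply]
    change P.map z.op ((σ ⋙ P).map (init (ob 0)) x) = 0
    rw [hx, map_zero]
  ex₀ x hx := by
    obtain ⟨s, rfl⟩ := ev1_surj P 0 x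
    have hs : HypInj.dd (kf.{w, w, w} σ) P 0 s = 0 := by
      apply ev1_inj P
      rw [ev1_dd, hx, map_zero]
    obtain ⟨t, ht⟩ := exists_section_of_cocycle h.isLocHyp hP s hs (𝟙 (pt σ WithInitial.star))
    refine ⟨t, ?_⟩
    have h1 := ht (ag σ) (mkS (𝟙 _)) (by
      change 𝟙 _ ≫ ag σ = ag σ ≫ 𝟙 _
      rw [Category.comp_id, Category.id_comp])
    exact h1
  ex n x hx := by
    obtain ⟨s, rfl⟩ := ev1_surj P (n + 1) x
    have hs : HypInj.dd (kf.{w, w, w} σ) P (n + 1) s = 0 := by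
      apply ev1_inj P
      rw [ev1_dd, hx, map_zero]
    obtain ⟨t, ht⟩ := exact_of_isLocHyp h.isLocHyp (fun V x hx => eq_of_loc hP (by
      simpa using hx)) s hs
    refine ⟨ev1 P n t, ?_⟩
    rw [← ev1_dd, ht]

end ex

end K290.LocEx
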