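import Groth.Agent.FibDesc.K290.ElDesc
import Groth.Agent.FibDesc.K290.LocEx
import Groth.Agent.FibDesc.K290.LocCone
import Groth.Agent.FibDesc.K781.Defs

/-!
# Descent along hypercoverings from descent along enough coverings, on a small site

`isDesc_of_LH`: `A` a bounded below complex of abelian presheaves on a small site such that every covering sieve
contains the augmentation of a locally fillable augmented simplicial object `σ` with `ElDesc (rs σ A)`. Then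
`IsDesc (rs σ A)` for every locally fillable `σ`.
-/

set_option autoImplicit false
set_option backward.isDefEq.respectTransparency false
set_option backward.isDefEq.respectTransparency.types false

universe u v w

open CategoryTheory CategoryTheory.Limits Opposite ComplexShape

namespace K290.Small

open K781.Desc K290.ElDesc K290.LocEx K290.LocCone Groth.Agent.CohtopB.LocTriv Groth.Agent.Htor.H253.AbQuasi

section dd

lemma dd_dd (P : SimplexCategory ⥤ AddCommGrpCat.{w}) (n : ℕ) (x : P.obj (SimplexCategory.mk n)) :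
    dd P (n + 1) (dd P n x) = 0 := by
  have h1 := ((alt _).obj P).d_comp_d n (n + 1) (n + 2)
  rw [alt_d] at h1
  have h2 : ((alt _).obj P).d (n + 1) (n + 2) = dd P (n + 1) := alt_d P (n + 1)
  rw [h2] at h1
  exact congr($h1 x)

lemma dd_init (F : Dp ⥤ AddCommGrpCat.{w}) (x : F.obj WithInitial.star) :
    dd ((rF _).obj F) 0 (F.map (init (ob 0)) x) = 0 :=
  congr($(init_dd F) x)

lemma dd_naturality {P Q : SimplexCategory ⥤ AddCommGrpCat.{w}} (f : P ⟶ Q) (n : ℕ)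
    (x : P.obj (SimplexCategory.mk n)) :
    f.app _ (dd P n x) = dd Q n (f.app _ x) := by
  rw [dd_apply, dd_apply, map_sum]
  refine Finset.sum_congr rfl fun i _ => ?_
  rw [map_zsmul]
  congr 1
  exact congr($(f.naturality _) x)

end dd

variable {C : Type w} [SmallCategory C] {J : GrothendieckTopology C}
  {A B : CochainComplex (Cᵒᵖ ⥤ AddCommGrpCat.{w}) ℤ} (φ : A ⟶ B)

/-- Acyclicity of the cone at `T`, in degree `r`. -/
def P (r : ℤ) : Prop :=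
  ∀ (T : Cᵒᵖ) (p q s : ℤ) (_ : p + 1 = q) (_ : q + 1 = r) (_ : r + 1 = s) (u : (A.X r).obj T)
    (v : (B.X q).obj T), (A.d r s).app T u = 0 → (φ.f r).app T u = (B.d q r).app T v →
    ∃ (x : (A.X q).obj T) (z : (B.X p).obj T), (A.d q r).app T x = u ∧ (φ.f q).app T x = v + (B.d p q).app T z

/-- The values on `σ`. -/
abbrev va (A : CochainComplex (Cᵒᵖ ⥤ AddCommGrpCat.{w}) ℤ) (σ : Dp ⥤ Cᵒᵖ) (i : ℤ) (x : Dp) : AddCommGrpCat.{w} :=
  (A.X i).obj (σ.obj x)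

variable {φ}

/-- The alternating coface. -/
noncomputable abbrev dl (A : CochainComplex (Cᵒᵖ ⥤ AddCommGrpCat.{w}) ℤ) (σ : Dp ⥤ Cᵒᵖ) (i : ℤ) (n : ℕ) :
    va A σ i (ob n) ⟶ va A σ i (ob (n + 1)) :=
  dd ((rF _).obj (σ ⋙ A.X i)) n

/-- The coaugmentation. -/
abbrev ga (A : CochainComplex (Cᵒᵖ ⥤ AddCommGrpCat.{w}) ℤ) (σ : Dp ⥤ Cᵒᵖ) (i : ℤ) :
    va A σ i WithInitial.star ⟶ va A σ i (ob 0) :=
  (A.X i).map (σ.map (init (ob 0)))

/-- The differential. -/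
abbrev df' (A : CochainComplex (Cᵒᵖ ⥤ AddCommGrpCat.{w}) ℤ) (σ : Dp ⥤ Cᵒᵖ) (i j : ℤ) (x : Dp) :
    va A σ i x ⟶ va A σ j x :=
  (A.d i j).app (σ.obj x)

/-- The morphism. -/
abbrev fi (φ : A ⟶ B) (σ : Dp ⥤ Cᵒᵖ) (i : ℤ) (x : Dp) :
    va A σ i x ⟶ va B σ i x :=
  (φ.f i).app (σ.obj x)

lemma df_dl (A : CochainComplex (Cᵒᵖ ⥤ AddCommGrpCat.{w}) ℤ) (σ : Dp ⥤ Cᵒᵖ) (i j : ℤ) (n : ℕ)
    (x : va A σ i (ob n)) : df' A σ i j (ob (n + 1)) (dl A σ i n x) = dl A σ j n (df' A σ i j (ob n) x) :=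
  dd_naturality ((rF _).map (Functor.whiskerLeft σ (A.d i j))) n x

lemma fi_dl (σ : Dp ⥤ Cᵒᵖ) (i : ℤ) (n : ℕ)
    (x : va A σ i (ob n)) : fi φ σ i (ob (n + 1)) (dl A σ i n x) = dl B σ i n (fi φ σ i (ob n) x) :=
  dd_naturality ((rF _).map (Functor.whiskerLeft σ (φ.f i))) n x

lemma df_ga (A : CochainComplex (Cᵒᵖ ⥤ AddCommGrpCat.{w}) ℤ) (σ : Dp ⥤ Cᵒᵖ) (i j : ℤ)
    (x : va A σ i WithInitial.star) : df' A σ i j (ob 0) (ga A σ i x) = ga A σ j (df' A σ i j _ x) :=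
  app_map _ _ _

lemma fi_ga (σ : Dp ⥤ Cᵒᵖ) (i : ℤ)
    (x : va A σ i WithInitial.star) : fi φ σ i (ob 0) (ga A σ i x) = ga B σ i (fi φ σ i _ x) :=
  app_map _ _ _

lemma dl_dl (A : CochainComplex (Cᵒᵖ ⥤ AddCommGrpCat.{w}) ℤ) (σ : Dp ⥤ Cᵒᵖ) (i : ℤ) (n : ℕ)
    (x : va A σ i (ob n)) : dl A σ i (n + 1) (dl A σ i n x) = 0 := dd_dd _ _ _

lemma dl_ga (A : CochainComplex (Cᵒᵖ ⥤ AddCommGrpCat.{w}) ℤ) (σ : Dp ⥤ Cᵒᵖ) (i : ℤ)
    (x : va A σ i WithInitial.star) : dl A σ i 0 (ga A σ i x) = 0 := dd_init (σ ⋙ A.X i) x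

lemma fi_df (σ : Dp ⥤ Cᵒᵖ) (i j : ℤ) (y : Dp)
    (x : va A σ i y) : fi φ σ j y (df' A σ i j y x) = df' B σ i j y (fi φ σ i y x) :=
  comp_f_app φ i j x

lemma df_df (A : CochainComplex (Cᵒᵖ ⥤ AddCommGrpCat.{w}) ℤ) (σ : Dp ⥤ Cᵒᵖ) (i j k : ℤ) (y : Dp)
    (x : va A σ i y) : df' A σ j k y (df' A σ i j y x) = 0 :=
  d_d_app i j k x

/-- The invariant of the construction. -/
structure Inv (φ : A ⟶ B) (σ : Dp ⥤ Cᵒᵖ) (k : ℕ → ℤ) (n : ℕ) (x : va A σ (k n) (ob n))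
    (z : va B σ (k (n + 1)) (ob n)) : Prop where
  i₁ : ∀ j, k n + 1 = j → dl A σ j n (df' A σ (k n) j _ x) = 0
  i₂ : dl B σ (k n) n (fi φ σ (k n) _ x) = dl B σ (k n) n (df' B σ (k (n + 1)) (k n) _ z)

lemma exists_next {r : ℤ} (hP : ∀ r' < r, P φ r') {σ : Dp ⥤ Cᵒᵖ} {k : ℕ → ℤ} (hk : ∀ n, k (n + 1) + 1 = k n)
    (n : ℕ) (hn : k n < r) (x : va A σ (k n) (ob n)) (z : va B σ (k (n + 1)) (ob n)) (h : Inv φ σ k n x z) :
    ∃ (x' : va A σ (k (n + 1)) (ob (n + 1))) (z' : va B σ (k (n + 2)) (ob (n + 1))),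
      Inv φ σ k (n + 1) x' z' ∧ df' A σ (k (n + 1)) (k n) _ x' = dl A σ (k n) n x ∧
      fi φ σ (k (n + 1)) _ x' = dl B σ (k (n + 1)) n z + df' B σ (k (n + 2)) (k (n + 1)) _ z' := by
  obtain ⟨x', z', hx', hz'⟩ := hP (k n) hn (σ.obj (ob (n + 1))) (k (n + 2)) (k (n + 1)) (k n + 1) (hk (n + 1)) (hk n)
    rfl (dl A σ (k n) n x) (dl B σ (k (n + 1)) n z) ((df_dl A σ _ _ _ _).trans (h.i₁ (k n + 1) rfl))
    ((fi_dl σ _ _ _).trans (h.i₂.trans (df_dl B σ _ _ _ _).symm))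
  refine ⟨x', z', ⟨?_, ?_⟩, hx', hz'⟩
  · intro j hj
    obtain rfl : j = k n := by have := hk n; lia
    rw [show df' A σ (k (n + 1)) (k n) _ x' = dl A σ (k n) n x from hx']
    exact dl_dl _ _ _ _ _
  · rw [show fi φ σ (k (n + 1)) _ x' = dl B σ (k (n + 1)) n z + df' B σ (k (n + 2)) (k (n + 1)) _ z' from hz',
      map_add, dl_dl, zero_add]

/-- The states of the construction. -/
structure St (φ : A ⟶ B) (σ : Dp ⥤ Cᵒᵖ) (k : ℕ → ℤ) (n : ℕ) where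
  x : va A σ (k n) (ob n)
  z : va B σ (k (n + 1)) (ob n)
  inv : Inv φ σ k n x z

lemma exists_seq {r : ℤ} (hP : ∀ r' < r, P φ r') {σ : Dp ⥤ Cᵒᵖ} {k : ℕ → ℤ} (hk : ∀ n, k (n + 1) + 1 = k n)
    (hn : k 0 < r) (x₀ : va A σ (k 0) (ob 0)) (z₀ : va B σ (k 1) (ob 0)) (h : Inv φ σ k 0 x₀ z₀) :
    ∃ (x : ∀ n, va A σ (k n) (ob n)) (z : ∀ n, va B σ (k (n + 1)) (ob n)), x 0 = x₀ ∧ z 0 = z₀ ∧ ∀ n,
      df' A σ (k (n + 1)) (k n) _ (x (n + 1)) = dl A σ (k n) n (x n) ∧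
      fi φ σ (k (n + 1)) _ (x (n + 1)) = dl B σ (k (n + 1)) n (z n) +
        df' B σ (k (n + 2)) (k (n + 1)) _ (z (n + 1)) := by
  have hkr : ∀ n, k n < r := fun n => by
    have := add_eq hk n
    lia
  choose X' Z' hI h1 h2 using fun (n : ℕ) (s : St φ σ k n) => exists_next hP hk n (hkr n) s.x s.z s.inv
  let s : ∀ n, St φ σ k n := fun n => Nat.rec ⟨x₀, z₀, h⟩ (fun n s => ⟨X' n s, Z' n s, hI n s⟩) n
  exact ⟨fun n => (s n).x, fun n => (s n).z, rfl, rfl, fun n => ⟨h1 n (s n), h2 n (s n)⟩⟩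

/-- The step of the induction, at the base of `σ`. -/
lemma step {r : ℤ} (hP : ∀ r' < r, P φ r') {σ : Dp ⥤ Cᵒᵖ} (hA : ElDesc (K781.Desc.rs σ A))
    (hB : ElDesc (K781.Desc.rs σ B)) (k : ℕ → ℤ) (hk : ∀ n, k (n + 1) + 1 = k n) (s : ℤ) (hr : k 0 + 1 = r)
    (hs : r + 1 = s) (u : va A σ r WithInitial.star) (v : va B σ (k 0) WithInitial.star)
    (hu : df' A σ r s _ u = 0) (huv : fi φ σ r _ u = df' B σ (k 0) r _ v)
    (x₀ : va A σ (k 0) (ob 0)) (z₀ : va B σ (k 1) (ob 0))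
    (hx₀ : df' A σ (k 0) r _ x₀ = ga A σ r u) (hz₀ : fi φ σ (k 0) _ x₀ = ga B σ (k 0) v + df' B σ (k 1) (k 0) _ z₀) :
    ∃ (x : va A σ (k 0) WithInitial.star) (z : va B σ (k 1) WithInitial.star),
      df' A σ (k 0) r _ x = u ∧ fi φ σ (k 0) _ x = v + df' B σ (k 1) (k 0) _ z := by
  subst hr hs
  have hI : Inv φ σ k 0 x₀ z₀ := by
    refine ⟨fun j hj => ?_, ?_⟩
    · subst hj
      rw [hx₀, dl_ga]
    · rw [hz₀, map_add, dl_ga]
      exact zero_add _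
  obtain ⟨x, z, rfl, rfl, hxz⟩ := exists_seq hP hk (by lia) x₀ z₀ hI
  obtain ⟨a, w, ha, hw0, hw⟩ := hA k hk u x hu hx₀ (fun n => (hxz n).1)
  have ha' : df' A σ (k 0) (k 0 + 1) _ a = u := ha
  have hw0' : x 0 = ga A σ (k 0) a + df' A σ (k 1) (k 0) _ (w 0) := hw0
  have hw' : ∀ n, x (n + 1) = df' A σ (k (n + 2)) (k (n + 1)) _ (w (n + 1)) + dl A σ (k (n + 1)) n (w n) := hw
  -- the classes for `B`
  let t : ∀ n, va B σ (k (n + 1)) (ob n) := fun n => fi φ σ (k (n + 1)) _ (w n) - z n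
  have ht0 : df' B σ (k 1) (k 0) _ (t 0) = ga B σ (k 0) (v - fi φ σ (k 0) _ a) := by
    have e1 : df' B σ (k 1) (k 0) _ (t 0) = df' B σ (k 1) (k 0) _ (fi φ σ (k 1) _ (w 0)) -
      df' B σ (k 1) (k 0) _ (z 0) := map_sub _ _ _
    rw [e1, map_sub, ← fi_ga, ← fi_df]
    have e2 : df' A σ (k 1) (k 0) _ (w 0) = x 0 - ga A σ (k 0) a := by
      rw [hw0']
      abel
    rw [e2, map_sub, hz₀]
    abel
  have ht : ∀ n, df' B σ (k (n + 2)) (k (n + 1)) _ (t (n + 1)) = - dl B σ (k (n + 1)) n (t n) := by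
    intro n
    have e1 : df' B σ (k (n + 2)) (k (n + 1)) _ (t (n + 1)) =
      df' B σ (k (n + 2)) (k (n + 1)) _ (fi φ σ (k (n + 2)) _ (w (n + 1))) -
        df' B σ (k (n + 2)) (k (n + 1)) _ (z (n + 1)) := map_sub _ _ _
    have e2 : dl B σ (k (n + 1)) n (t n) = dl B σ (k (n + 1)) n (fi φ σ (k (n + 1)) _ (w n)) -
        dl B σ (k (n + 1)) n (z n) := map_sub _ _ _
    have e3 : df' A σ (k (n + 2)) (k (n + 1)) _ (w (n + 1)) = x (n + 1) - dl A σ (k (n + 1)) n (w n) := by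
      rw [hw']
      abel
    rw [e1, e2, ← fi_df, e3, map_sub, (hxz n).2, fi_dl]
    abel
  let y : ∀ n, va B σ (k (n + 1)) (ob n) := fun n => (-1 : ℤ) ^ n • t n
  have hty : ∀ n, df' B σ (k (n + 2)) (k (n + 1)) _ (y (n + 1)) = dl B σ (k (n + 1)) n (y n) := by
    intro n
    have e1 : df' B σ (k (n + 2)) (k (n + 1)) _ (y (n + 1)) =
      (-1 : ℤ) ^ (n + 1) • df' B σ (k (n + 2)) (k (n + 1)) _ (t (n + 1)) := map_zsmul _ _ _
    have e2 : dl B σ (k (n + 1)) n (y n) = (-1 : ℤ) ^ n • dl B σ (k (n + 1)) n (t n) := map_zsmul _ _ _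
    rw [e1, e2, ht, pow_succ]
    simp
  have hv' : df' B σ (k 0) (k 0 + 1) _ (v - fi φ σ (k 0) _ a) = 0 := by
    rw [map_sub, ← huv, ← fi_df, ha', sub_self]
  obtain ⟨b, -, hb, -, -⟩ := hB.apply (fun n => k (n + 1)) (fun n => hk (n + 1)) (k 0) (k 0 + 1) (hk 0) rfl
    (v - fi φ σ (k 0) _ a) y hv' (by
      have e1 : y 0 = t 0 := by simp [y]
      rw [e1]
      exact ht0) hty
  refine ⟨a, -b, ha', ?_⟩
  have hb' : df' B σ (k 1) (k 0) _ b = v - fi φ σ (k 0) _ a := hb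
  rw [map_neg, hb']
  abel

/-- Enough coverings with descent. -/
def Enough (J : GrothendieckTopology C) (Q : (Dp ⥤ Cᵒᵖ) → Prop) : Prop :=
  ∀ (T : C) (R : Sieve T), R ∈ J T → ∃ (σ : Dp ⥤ Cᵒᵖ), Q σ ∧ ∃ e : op T ≅ σ.obj WithInitial.star,
    R ((e.hom ≫ σ.map (init (ob 0))).unop)

theorem P_all (a : ℤ) (hA0 : ∀ i < a, IsZero (A.X i)) (hB0 : ∀ i < a, IsZero (B.X i)) (hφ : IsLocCone J φ)
    (hcov : Enough J (fun σ => ElDesc (K781.Desc.rs σ A) ∧ ElDesc (K781.Desc.rs σ B))) (r : ℤ) : P φ r := by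
  refine Int.strongRec (m := a) (fun r hr => ?_) (fun r hr ih => ?_) r
  · intro T p q s hp hq hs u v hu huv
    have h1 : u = 0 := eq_zero_of_isZero (((evaluation _ _).obj T).map_isZero (hA0 r hr)) u
    have h2 : v = 0 := eq_zero_of_isZero (((evaluation _ _).obj T).map_isZero (hB0 q (by lia))) v
    refine ⟨0, 0, ?_, ?_⟩
    · rw [map_zero, h1]
    · rw [map_zero, map_zero, h2, add_zero]
  · intro T p q s hp hq hs u v hu huv
    obtain ⟨k, hk, rfl⟩ := exists_k q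
    obtain rfl : p = k 1 := by have := hk 0; lia
    obtain ⟨R, hR, hR'⟩ := hφ T.unop _ _ _ _ hp hq hs u v hu huv
    obtain ⟨σ, ⟨hA, hB⟩, e, he⟩ := hcov T.unop R hR
    obtain ⟨x₀, z₀, h1, h2⟩ := hR' _ he
    have h1' : df' A σ (k 0) r (ob 0) x₀ = ga A σ r ((A.X r).map e.hom u) := by
      refine h1.trans ?_
      rw [Quiver.Hom.op_unop, (A.X r).map_comp]
      rfl
    have h2' : fi φ σ (k 0) (ob 0) x₀ = ga B σ (k 0) ((B.X (k 0)).map e.hom v) +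
        df' B σ (k 1) (k 0) (ob 0) z₀ := by
      refine h2.trans ?_
      rw [Quiver.Hom.op_unop, (B.X (k 0)).map_comp]
      rfl
    obtain ⟨x, z, hx, hz⟩ := step ih hA hB k hk s hq hs ((A.X r).map e.hom u) ((B.X (k 0)).map e.hom v)
      (by
        refine (app_map (A.d r s) e.hom u).trans ?_
        rw [hu, map_zero]) (by
        refine (app_map (φ.f r) e.hom u).trans ?_
        rw [huv]
        exact (app_map (B.d (k 0) r) e.hom v).symm) x₀ z₀ h1' h2'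
    have hinv : ∀ (F : Cᵒᵖ ⥤ AddCommGrpCat.{w}) (y : F.obj T), F.map e.inv (F.map e.hom y) = y := fun F y => by
      rw [← ConcreteCategory.comp_apply, ← F.map_comp, Iso.hom_inv_id, F.map_id]
      rfl
    refine ⟨(A.X (k 0)).map e.inv x, (B.X (k 1)).map e.inv z, ?_, ?_⟩
    · rw [app_map, show (A.d (k 0) r).app _ x = _ from hx, hinv]
    · rw [app_map, show (φ.f (k 0)).app _ x = _ from hz, map_add, hinv, app_map]

/-- Descent along locally fillable augmented simplicial objects. -/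
theorem isDesc_of_LH (hA : BB A) (hcov : Enough J (fun σ => LH J σ ∧ ElDesc (K781.Desc.rs σ A)))
    {σ : Dp ⥤ Cᵒᵖ} (hσ : LH J σ) : IsDesc (K781.Desc.rs σ A) := by
  obtain ⟨a, ha⟩ := hA
  obtain ⟨I, φ, hI, hinj, hsh, hφ⟩ := exists_resolution J A a ha
  have hbA : ∀ τ : Dp ⥤ Cᵒᵖ, BB (K781.Desc.rs τ A) := fun τ =>
    ⟨a, fun i hi => ((Functor.whiskeringLeft _ _ _).obj τ).map_isZero (ha i hi)⟩
  have hbI : ∀ τ : Dp ⥤ Cᵒᵖ, BB (K781.Desc.rs τ I) := fun τ =>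
    ⟨a, fun i hi => ((Functor.whiskeringLeft _ _ _).obj τ).map_isZero (hI i hi)⟩
  have hIdesc : ∀ τ : Dp ⥤ Cᵒᵖ, LH J τ → IsDesc (K781.Desc.rs τ I) := fun τ hτ => by
    refine isDesc_of_augExact (hbI τ) fun q => ?_
    have := hinj q
    exact augExact_of_ex (hτ.ex (I.X q) (hsh q))
  have hP := P_all a ha hI hφ (fun T R hR => by
    obtain ⟨τ, ⟨h1, h2⟩, h3⟩ := hcov T R hR
    exact ⟨τ, ⟨h2, elDesc_of_isDesc (hbI τ) (hIdesc τ h1)⟩, h3⟩)
  have hq : ∀ T : Cᵒᵖ, QuasiIso ((((evaluation _ AddCommGrpCat.{w}).obj T).mapHomologicalComplex (up ℤ)).map φ) := by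
    intro T
    apply quasiIso_of_isConeElt
    intro p q r s hp hq hs u v hu huv
    exact hP r T p q s hp hq hs u v hu huv
  exact (isDesc_iff_of_quasi (hbA σ) (hbI σ)
    ((((Functor.whiskeringLeft _ _ _).obj σ).mapHomologicalComplex (up ℤ)).map φ) (fun x => hq (σ.obj x))).2
    (hIdesc σ hσ)

end K290.Small
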